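import Groth.Prelude.Def_Frob
import Groth.Agent.Sga3B.BcPts
import Groth.Agent.Sga3B.KerGrp
import Groth.Agent.Sga3B.Pts

/-!
# The relative Frobenius of a group scheme as a homomorphism
-/

set_option autoImplicit false
universe u

open CategoryTheory MonoidalCategory CartesianMonoidalCategory MonObj GrpObj AlgebraicGeometry Limits Opposite
open Groth.Agent.Sga3B.BcPts Groth.Agent.Sga3B.KerGrp

namespace K258.RelFrobHom

variable {S S' : Scheme.{u}} (p : ℕ) [Fact p.Prime] [FrobSch.IsCharP S p] [FrobSch.IsCharP S' p]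

/-- The absolute Frobenius of an `S`-scheme, as a morphism over `S` from the `S`-scheme with the Frobenius-twisted
structure. -/
noncomputable def phi (T : Over S) : (Over.map (FrobSch.frob S p)).obj T ⟶ T :=
  haveI : FrobSch.IsCharP T.left p := FrobSch.IsCharP.of_hom T.hom p
  Over.homMk (FrobSch.frob T.left p) (FrobSch.frob_comp p T.hom)

theorem phi_left (T : Over S) [FrobSch.IsCharP T.left p] : (phi p T).left = FrobSch.frob T.left p := rfl

theorem phi_nat {T T' : Over S} (x : T ⟶ T') :
    (Over.map (FrobSch.frob S p)).map x ≫ phi p T' = phi p T ≫ x := by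
  have : FrobSch.IsCharP T.left p := FrobSch.IsCharP.of_hom T.hom p
  have : FrobSch.IsCharP T'.left p := FrobSch.IsCharP.of_hom T'.hom p
  ext1
  exact (FrobSch.frob_comp p x.left).symm

/-- The relative Frobenius. -/
noncomputable def F (G : Over S) : G ⟶ Red.bc (FrobSch.frob S p) G :=
  bcEquiv (FrobSch.frob S p) G G (phi p G)

theorem comp_F {T G : Over S} (x : T ⟶ G) : x ≫ F p G = bcEquiv (FrobSch.frob S p) T G (phi p T ≫ x) := by
  rw [F, ← comp_bcEquiv, phi_nat]

instance isMonHom_F (G : Over S) [GrpObj G] : IsMonHom (F p G) := by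
  apply Groth.Agent.Sga3B.Pts.isMonHom_of_points
  intro X x y
  rw [comp_F, comp_F, comp_F, MonObj.comp_mul, bcEquiv_mul]

theorem bcEquiv_left_fst (j : S' ⟶ S) (T : Over S') (X : Over S) (x : (Over.map j).obj T ⟶ X) :
    (bcEquiv j T X x).left ≫ pullback.fst X.hom j = x.left := by
  simp only [bcEquiv, Over.mapPullbackAdj, Adjunction.mkOfHomEquiv_homEquiv]
  exact pullback.lift_fst _ _ _

theorem F_fst (G : Over S) [FrobSch.IsCharP G.left p] :
    (F p G).left ≫ pullback.fst G.hom (FrobSch.frob S p) = FrobSch.frob G.left p :=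
  bcEquiv_left_fst _ _ _ _

theorem F_left (G : Over S) : (F p G).left = FrobSch.relFrob G.hom p := by
  have : FrobSch.IsCharP G.left p := FrobSch.IsCharP.of_hom G.hom p
  apply pullback.hom_ext
  · rw [F_fst]
    exact (FrobSch.relFrob_fst G.hom p).symm
  · rw [FrobSch.relFrob_snd]
    exact Over.w (F p G)

theorem unit_bc_fst (j : S' ⟶ S) (G : Over S) [GrpObj G] :
    (η[Red.bc j G] : 𝟙_ (Over S') ⟶ Red.bc j G).left ≫ pullback.fst G.hom j =
      j ≫ (η[G] : 𝟙_ (Over S) ⟶ G).left := by
  have h1 : (η[Red.bc j G] : 𝟙_ (Over S') ⟶ Red.bc j G) = bcEquiv j (𝟙_ (Over S')) G 1 := by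
    rw [bcEquiv_one]
    exact MonObj.one_eq_one (M := Red.bc j G)
  rw [h1, bcEquiv_left_fst, Hom.one_def, Over.comp_left]
  congr 1

end K258.RelFrobHom
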