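import Groth.Agent.AgPol.K814.RelDim
import Groth.Agent.AbSch.K258.RelFrobHom
import Groth.Agent.AbSch.K451.DetPic
import Groth.Agent.AbSch.K451.OmegaBox
import Groth.Agent.AbSch.K451.PowCube
import Groth.Agent.Ega2.RelAmpRows
import Groth.Agent.Vancyc.H878.RelOmega
import Groth.Agent.Grpsch.AbBC
import Groth.Agent.OmegaSh.K583.ExtPowPull

/-!
# Base change of abelian schemes with a symmetric rigidified relatively ample module
-/

set_option autoImplicit false
universe u

open CategoryTheory MonoidalCategory CartesianMonoidalCategory MonObj GrpObj AlgebraicGeometry Limits Opposite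
open Groth.Agent Groth.Agent.Grpsch Groth.Agent.Fdesc.LocGen

namespace K258.AbBC

variable {S T : Scheme.{u}} (q : T ⟶ S) (A : Over S) [GrpObj A] {g : ℕ}

/-- The projection from the base change. -/
noncomputable abbrev pr : (Red.bc q A).left ⟶ A.left := pullback.fst A.hom q

omit [GrpObj A] in
theorem isPullback : IsPullback (pr q A) (Red.bc q A).hom A.hom q := IsPullback.of_hasPullback A.hom q

/-- The base change of an abelian scheme is an abelian scheme. -/
theorem isAbSch (hA : AgPol.IsAbSch A g) : AgPol.IsAbSch (Red.bc q A) g := by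
  have := hA.smooth
  have := hA.geomConnected
  have := hA.proper
  have h1 : SmoothOfRelativeDimension g A.hom := K814.RelDim.of_isAbSch A g hA
  have h2 : SmoothOfRelativeDimension g (Red.bc q A).hom :=
    (smoothOfRelativeDimension_isStableUnderBaseChange g).of_isPullback (isPullback q A) h1
  refine ⟨inferInstanceAs (Smooth (pullback.snd A.hom q)), inferInstanceAs (IsProper (pullback.snd A.hom q)),
    inferInstanceAs (GeometricallyConnected (pullback.snd A.hom q)), fun t => ?_⟩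
  let x : (Red.bc q A).left := (η[Red.bc q A] : 𝟙_ (Over T) ⟶ Red.bc q A).left t
  have hx : (Red.bc q A).hom x = t := by
    have h3 : (η[Red.bc q A] : 𝟙_ (Over T) ⟶ Red.bc q A).left ≫ (Red.bc q A).hom = 𝟙 T :=
      Over.w (η[Red.bc q A] : 𝟙_ (Over T) ⟶ Red.bc q A)
    exact congrArg (fun q : T ⟶ T => q t) h3
  have h6 : LocallyOfFiniteType (Red.bc q A).hom := inferInstanceAs (LocallyOfFiniteType (pullback.snd A.hom q))
  have h4 := Groth.Agent.S3022.fibreDimAt_eq (Red.bc q A) x
  have h5 := Groth.Agent.S2768.result g (Red.bc q A).hom x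
  rw [h4, hx] at h5
  exact h5

theorem zpow_pr (n : ℤ) : (𝟙 (Red.bc q A) ^ n).left ≫ pr q A = pr q A ≫ (𝟙 A ^ n).left := by
  have h1 := Groth.Agent.Grpsch.AbBC.map_zpow_one q A n
  have h2 : ((Over.pullback q).map (𝟙 A ^ n)).left ≫ pullback.fst A.hom q =
      pullback.fst A.hom q ≫ (𝟙 A ^ n).left := pullback.lift_fst _ _ _
  rw [← h2, h1]

theorem unit_pr : (η[Red.bc q A] : 𝟙_ (Over T) ⟶ Red.bc q A).left ≫ pr q A =
    q ≫ (η[A] : 𝟙_ (Over S) ⟶ A).left := K258.RelFrobHom.unit_bc_fst q A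

theorem pull_unit (c : PicGrp.Pic A.left) :
    PicGrp.pull (η[Red.bc q A] : 𝟙_ (Over T) ⟶ Red.bc q A).left (PicGrp.pull (pr q A) c) =
      PicGrp.pull q (PicGrp.pull (η[A] : 𝟙_ (Over S) ⟶ A).left c) := by
  rw [← PicGrp.pull_comp, unit_pr, PicGrp.pull_comp]

theorem pull_zpow (n : ℤ) (c : PicGrp.Pic A.left) :
    PicGrp.pull (𝟙 (Red.bc q A) ^ n).left (PicGrp.pull (pr q A) c) =
      PicGrp.pull (pr q A) (PicGrp.pull (𝟙 A ^ n).left c) := by
  rw [← PicGrp.pull_comp, zpow_pr, PicGrp.pull_comp]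

variable {A} {L : A.left.Modules}

theorem rig (hL : PicF.IsInvertible L)
    (h : Nonempty ((Scheme.Modules.pullback (η[A] : 𝟙_ (Over S) ⟶ A).left).obj L ≅ Coh.structureModule S)) :
    Nonempty ((Scheme.Modules.pullback (η[Red.bc q A] : 𝟙_ (Over T) ⟶ Red.bc q A).left).obj
      ((Scheme.Modules.pullback (pr q A)).obj L) ≅ Coh.structureModule T) := by
  refine (PicGrp.mk_eq_one_iff (isInvertible_pullback _ (isInvertible_pullback _ hL))).mp ?_
  have h1 := (PicGrp.mk_eq_one_iff (isInvertible_pullback _ hL)).mpr h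
  rw [← PicGrp.pull_mk _ (isInvertible_pullback _ hL), ← PicGrp.pull_mk _ hL]
  refine (pull_unit q A (PicGrp.mk L hL)).trans ?_
  rw [PicGrp.pull_mk]
  refine (congrArg (PicGrp.pull q) h1).trans (map_one _)

theorem sym (hL : PicF.IsInvertible L)
    (h : Nonempty ((Scheme.Modules.pullback (𝟙 A ^ (-1 : ℤ)).left).obj L ≅ L)) :
    Nonempty ((Scheme.Modules.pullback (𝟙 (Red.bc q A) ^ (-1 : ℤ)).left).obj
      ((Scheme.Modules.pullback (pr q A)).obj L) ≅ (Scheme.Modules.pullback (pr q A)).obj L) := by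
  refine (PicGrp.mk_eq_iff (isInvertible_pullback _ (isInvertible_pullback _ hL))
    (isInvertible_pullback _ hL)).mp ?_
  have h1 := (PicGrp.mk_eq_iff (isInvertible_pullback _ hL) hL).mpr h
  rw [← PicGrp.pull_mk _ (isInvertible_pullback _ hL), ← PicGrp.pull_mk _ hL]
  refine (pull_zpow q A (-1) (PicGrp.mk L hL)).trans ?_
  rw [PicGrp.pull_mk]
  exact congrArg (PicGrp.pull (pr q A)) h1

omit [GrpObj A] in
theorem amp [QuasiCompact A.hom] (h : RelAmple.IsRelAmple A.hom L) :
    RelAmple.IsRelAmple (Red.bc q A).hom ((Scheme.Modules.pullback (pr q A)).obj L) :=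
  Groth.Agent.Ega2.RelAmp.relAmple_baseChange A.hom q L h

open K451.OmegaBox in
/-- Invariant differentials commute with base change. -/
theorem nonempty_om [QuasiSeparated A.hom] :
    Nonempty ((Scheme.Modules.pullback q).obj (om A) ≅ om (Red.bc q A)) := by
  let e := Groth.Agent.Vancyc.H878.RelOmega.omegaBC (isPullback q A)
  exact ⟨(Scheme.Modules.pullbackComp q _).app _ ≪≫ (Scheme.Modules.pullbackCongr (unit_pr q A).symm).app _ ≪≫
    ((Scheme.Modules.pullbackComp _ (pr q A)).app _).symm ≪≫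
    (Scheme.Modules.pullback (η[Red.bc q A] : 𝟙_ (Over T) ⟶ Red.bc q A).left).mapIso e⟩

open K451.OmegaBox in
theorem isExtPow_om (hA : AgPol.IsAbSch A g) {ω : S.Modules} (hω : ExtPow.IsExtPow g (om A) ω) :
    ExtPow.IsExtPow g (om (Red.bc q A)) ((Scheme.Modules.pullback q).obj ω) := by
  have := hA.proper
  obtain ⟨e⟩ := nonempty_om (A := A) q
  have h1 := K583.ExtPowPull.isExtPow_pullback q (K451.DetPic.isQCoh_of_rank (isFinLocFreeOfRank_om hA)) hω
  obtain ⟨ω', hω'⟩ := Groth.Agent.Dual.H366.ExtQCoh.exists_isExtPow g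
    (K451.DetPic.isQCoh_of_rank (isFinLocFreeOfRank_om (isAbSch q A hA)))
  obtain ⟨e'⟩ := Groth.Agent.Sga67.TensorOps.nonempty_iso_of_isExtPow e h1 hω'
  exact Groth.Agent.Krr.H487.ExtPull.isExtPow_of_iso hω' e'.symm

end K258.AbBC
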