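import Groth.Agent.AbSch.K258.AbBC
import Groth.Agent.AbSch.K449.FibVan2
import Groth.Agent.Variety.K425.Chart
import Groth.Agent.S14124

/-!
# Vanishing of the higher cohomology of ample modules on the fibres of an abelian scheme
-/

set_option autoImplicit false
universe u

open CategoryTheory MonoidalCategory CartesianMonoidalCategory MonObj GrpObj AlgebraicGeometry Limits Opposite
open Groth.Agent Groth.Agent.Grpsch Groth.Agent.Fdesc.LocGen
open scoped TensorProduct

namespace K258.AmpVan

theorem subsingleton_of_tensor (k K : Type*) [Field k] [Field K] [Algebra k K] (V : Type*) [AddCommGroup V] [Module k V]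
    (h : Subsingleton (K ⊗[k] V)) : Subsingleton V := by
  by_contra hV
  rw [not_subsingleton_iff_nontrivial] at hV
  have := Module.FaithfullyFlat.lTensor_nontrivial k K V
  exact not_subsingleton _ h

variable {S : Scheme.{u}} {A : Over S} [GrpObj A] {g : ℕ} {L : A.left.Modules}

/-- Higher cohomology of the fibres vanishes. -/
theorem subsingleton_fiberH (hA : AgPol.IsAbSch A g) (hamp : RelAmple.IsRelAmple A.hom L)
    (hL : PicF.IsInvertible L) (s : S) (p : ℕ) (hp : 1 ≤ p) : Subsingleton (CohIII.fiberH A.hom L s p) := by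
  have := hA.smooth
  have := hA.geomConnected
  have := hA.proper
  let K := AlgebraicClosure (S.residueField s)
  let τ : Spec (CommRingCat.of K) ⟶ S :=
    Spec.map (CommRingCat.ofHom (algebraMap (S.residueField s) K)) ≫ S.fromSpecResidueField s
  have hτ : s ∈ Set.range τ := by
    let x : Spec (CommRingCat.of K) := IsLocalRing.closedPoint K
    refine ⟨x, ?_⟩
    have h1 : τ x = S.fromSpecResidueField s
      (Spec.map (CommRingCat.ofHom (algebraMap (S.residueField s) K)) x) := Scheme.Hom.comp_apply _ _ x
    rw [h1]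
    exact S.fromSpecResidueField_apply s _
  let i1 : (Red.bc τ A).left.Over (Spec (CommRingCat.of K)) := ⟨(Red.bc τ A).hom⟩
  have hsm : Smooth (Red.bc τ A).hom := (K258.AbBC.isAbSch τ A hA).smooth
  have hpr : IsProper (Red.bc τ A).hom := (K258.AbBC.isAbSch τ A hA).proper
  have hgc : GeometricallyConnected (Red.bc τ A).hom := (K258.AbBC.isAbSch τ A hA).geomConnected
  have hamp' : CohB1.IsAmple ((Scheme.Modules.pullback (pullback.fst A.hom τ)).obj L) :=
    K425.Chart.isAmple_pullback_of_relAmple hamp τ
  have h1 := (Groth.Agent.S14124.result K (Red.bc τ A) _ hamp').1 p (by omega)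
  obtain ⟨_, ⟨e⟩⟩ := Pic13.H952.FibrePt.exists_linearEquiv A.hom τ (K258.AbBC.pr τ A)
    (K258.AbBC.isPullback τ A) s hτ L (Ega2.QCohLocal.isQCoh_of_isInvertible hL) p
  exact subsingleton_of_tensor (S.residueField s) K _ e.toEquiv.subsingleton

end K258.AmpVan
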