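import Groth.Agent.AbSch.K451.OmegaBox
import Groth.Agent.Grpsch.PicGrp
import Groth.Prelude.Def_Red
import Groth.Prelude.Def_LCI2
import Mathlib.CategoryTheory.Monoidal.Cartesian.Grp

/-!
# Principal data, and abelian schemes reducing to principal data
-/

set_option autoImplicit false
universe u

open CategoryTheory MonoidalCategory CartesianMonoidalCategory MonObj GrpObj AlgebraicGeometry Limits Opposite

namespace K258.KeyDat

/-- A principal datum: an abelian scheme of relative dimension `g` with a rigidified symmetric relatively ample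
module with invertible direct image. -/
structure Dat {S : Scheme.{u}} (A : Over S) [GrpObj A] (g : ℕ) (L : A.left.Modules) : Prop where
  ab : AgPol.IsAbSch A g
  inv : PicF.IsInvertible L
  rig : Nonempty ((Scheme.Modules.pullback (η[A] : 𝟙_ (Over S) ⟶ A).left).obj L ≅ Coh.structureModule S)
  sym : Nonempty ((Scheme.Modules.pullback (𝟙 A ^ (-1 : ℤ)).left).obj L ≅ L)
  amp : RelAmple.IsRelAmple A.hom L
  prin : PicF.IsInvertible ((Coh.push A.hom).obj L)

/-- Translation by a section. -/
noncomputable abbrev tr {S : Scheme.{u}} {A : Over S} [GrpObj A] (a : 𝟙_ (Over S) ⟶ A) : A ⟶ A :=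
  𝟙 A * (toUnit A ≫ a)

/-- `(A, L)` reduces to a principal datum: there are a finite flat surjective homomorphism `lam : A ⟶ B`, a
principal datum `(B, M)` and a torsion section `a` of `A` with `lam^* M ⊗ f^* a^* L ≅ t_a^* L`. -/
def HasPrinc {S : Scheme.{u}} (A : Over S) [GrpObj A] (g : ℕ) (L : A.left.Modules) : Prop :=
  ∃ (B : Over S) (_ : GrpObj B) (_ : IsCommMonObj B) (lam : A ⟶ B) (M : B.left.Modules)
    (a : 𝟙_ (Over S) ⟶ A) (n : ℕ), IsMonHom lam ∧ IsFinite lam.left ∧ Flat lam.left ∧ Surjective lam.left ∧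
      Dat B g M ∧ 1 ≤ n ∧ a ^ n = 1 ∧
      Nonempty (CohB1.tensorMod ((Scheme.Modules.pullback lam.left).obj M)
        ((Scheme.Modules.pullback A.hom).obj ((Scheme.Modules.pullback a.left).obj L)) ≅
          (Scheme.Modules.pullback (tr a).left).obj L)

end K258.KeyDat
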