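import Groth.Agent.Krr.H487.LocBasisPull
import Groth.Agent.Picfga.ChiCech
import Groth.Prelude.Def_ega3
import Groth.Prelude.Def_CohBC2
import Mathlib.LinearAlgebra.Dimension.Basic
import Mathlib.LinearAlgebra.Dimension.Finrank

/-!
# The rank of a direct image at a point
-/

set_option autoImplicit false
universe u

open CategoryTheory Limits AlgebraicGeometry Opposite TopologicalSpace

namespace K258.RankFib

open Groth.Agent.Sga67.Sec Groth.Agent.Sga67.LocBasis Groth.Agent.Krr.H487.LocBasisPull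

/-- The rank of the sections over the spectrum of a field of the pull-back of a module with a basis. -/
theorem finrank_pullback {S : Scheme.{u}} {κ : CommRingCat.{u}} [Nontrivial κ] (τ : Spec κ ⟶ S) {P : S.Modules}
    {U : S.Opens} {n : ℕ} {b : Fin n → Sec P U} (hb : IsLocBasis b) (hU : ⊤ ≤ τ ⁻¹ᵁ U) :
    Module.finrank Γ(Spec κ, ⊤) (Sec ((Scheme.Modules.pullback τ).obj P) ⊤) = n := by
  have h1 := isLocBasis_pbS τ hb
  have : Nontrivial Γ(Spec κ, ⊤) := (Scheme.ΓSpecIso κ).symm.commRingCatIsoToRingEquiv.toEquiv.symm.nontrivial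
  rw [Module.finrank_eq_card_basis (h1.basis hU), Fintype.card_fin]

/-- An isomorphism of modules on sections. -/
noncomputable def secEquiv {X : Scheme.{u}} {M N : X.Modules} (e : M ≅ N) (U : X.Opens) :
    Sec M U ≃ₗ[Γ(X, U)] Sec N U :=
  LinearEquiv.ofLinearMap (appS e.hom U) (appS e.inv U) (LinearMap.ext fun x => appS_inv_hom e U x)
    (LinearMap.ext fun x => appS_hom_inv e U x)

/-- Global sections of a direct image to the spectrum of a field. -/
theorem finrank_push {κ : CommRingCat.{u}} {Y : Scheme.{u}} (q : Y ⟶ Spec κ) (M : Y.Modules) :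
    Module.finrank Γ(Spec κ, ⊤) (Sec ((Scheme.Modules.pushforward q).obj M) ⊤) =
      @Module.finrank κ (Coh.HH Y M 0) _ _ (@Coh.moduleOver κ _ Y ⟨q⟩ M 0) := by
  let iY : Y.Over (Spec (CommRingCat.of κ)) := ⟨q⟩
  let e := Groth.Agent.Picfga.ChiCech.h0Top (A := κ) (X := Y) M
  let j : Coh.HH Y M 0 ≃+ Sec ((Scheme.Modules.pushforward q).obj M) ⊤ := e.toAddEquiv
  symm
  unfold Module.finrank
  congr 1
  refine rank_eq_of_equiv_equiv (R := κ) (R' := Γ(Spec κ, ⊤)) (Scheme.ΓSpecIso κ).inv.hom j ?_ ?_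
  · exact (Scheme.ΓSpecIso κ).symm.commRingCatIsoToRingEquiv.bijective
  · intro r m
    have h1 : j (r • m) = r • e m := e.map_smul r m
    have h2 : Groth.Agent.Picfga.ChiCech.str (X := Y) κ ⊤ r =
        (q.app ⊤).hom ((Scheme.ΓSpecIso κ).inv.hom r) :=
      (Groth.Agent.Sga67.Sec.resO_self (X := Y) le_top _)
    rw [h1, Groth.Agent.Picfga.ChiCech.smul_def, h2]
    rfl

variable {X S : Scheme.{u}} (f : X ⟶ S) (F : X.Modules)

/-- If `f_* F` commutes with base change to the point `s` then its rank at `s` is the dimension of `H^0` of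
the fibre. -/
theorem fiberRank_eq (s : S) {U : S.Opens} {n : ℕ} {b : Fin n → Sec ((Coh.push f).obj F) U} (hb : IsLocBasis b)
    (hs : s ∈ U) (hbc : IsIso (CohBC.bc0 f (S.fromSpecResidueField s) (f.fiberToSpecResidueField s) (f.fiberι s)
      (f.fiber_fac s) F)) : CohIII.fiberRank f F 0 s = n := by
  have hU : ⊤ ≤ S.fromSpecResidueField s ⁻¹ᵁ U := by
    intro x _
    change S.fromSpecResidueField s x ∈ U
    rwa [S.fromSpecResidueField_apply s x]
  rw [← finrank_pullback (S.fromSpecResidueField s) hb hU]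
  have h1 := finrank_push (f.fiberToSpecResidueField s) (CohIII.fiberMod f F s)
  have h2 := (secEquiv (asIso (CohBC.bc0 f (S.fromSpecResidueField s) (f.fiberToSpecResidueField s) (f.fiberι s)
      (f.fiber_fac s) F)) ⊤).finrank_eq
  exact h1.symm.trans h2.symm

/-- The rank of a direct image which is finite locally free and commutes with base change to points. -/
theorem isFinLocFreeOfRank {r : ℕ} (hlf : FlatMod.IsFinLocFree ((Coh.push f).obj F))
    (hbc : ∀ s : S, IsIso (CohBC.bc0 f (S.fromSpecResidueField s) (f.fiberToSpecResidueField s) (f.fiberι s)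
      (f.fiber_fac s) F)) (hr : ∀ s : S, CohIII.fiberRank f F 0 s = r) :
    FlatMod.IsFinLocFreeOfRank r ((Coh.push f).obj F) := by
  intro s
  obtain ⟨U, n, hs, e⟩ := hlf s
  obtain ⟨b, hb⟩ := nonempty_restrict_iso_iff.mp e
  have h1 := fiberRank_eq f F s hb hs (hbc s)
  rw [hr s] at h1
  subst h1
  exact ⟨U, hs, e⟩

end K258.RankFib
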