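import Groth.Agent.AbSch.K258.DatDef
import Groth.Agent.AbSch.K258.AbBC

/-!
# Transport of principal reductions
-/

set_option autoImplicit false
universe u

open CategoryTheory MonoidalCategory CartesianMonoidalCategory MonObj GrpObj AlgebraicGeometry Limits Opposite
open Groth.Agent Groth.Agent.Grpsch Groth.Agent.Fdesc.LocGen K258.KeyDat K258.AbBC
open Groth.Agent.Sga3B.BcPts

namespace K258.Theta

variable {S T : Scheme.{u}}

section tr

variable {A : Over S} [GrpObj A]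

theorem tr_comp_tr (a b : 𝟙_ (Over S) ⟶ A) : tr a ≫ tr b = tr (a * b) := by
  change tr a ≫ (𝟙 A * (toUnit A ≫ b)) = 𝟙 A * (toUnit A ≫ (a * b))
  rw [MonObj.comp_mul, Category.comp_id, ← Category.assoc, Subsingleton.elim (tr a ≫ toUnit A) (toUnit A),
    MonObj.comp_mul, ← _root_.mul_assoc]

theorem tr_one : tr (1 : 𝟙_ (Over S) ⟶ A) = 𝟙 A := by
  change 𝟙 A * (toUnit A ≫ 1) = 𝟙 A
  rw [MonObj.comp_one, _root_.mul_one]

instance isIso_tr (a : 𝟙_ (Over S) ⟶ A) : IsIso (tr a) :=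
  ⟨tr a⁻¹, by rw [tr_comp_tr, mul_inv_cancel, tr_one], by rw [tr_comp_tr, inv_mul_cancel, tr_one]⟩

theorem isIso_tr_left (a : 𝟙_ (Over S) ⟶ A) : IsIso (tr a).left :=
  inferInstanceAs (IsIso ((Over.forget S).map (tr a)))

end tr

section points

variable (q : T ⟶ S) (A : Over S) [GrpObj A]

omit [GrpObj A] in
theorem symm_left {X : Over T} (x : X ⟶ Red.bc q A) :
    ((bcEquiv q X A).symm x).left = x.left ≫ pr q A := by
  conv_rhs => rw [← (bcEquiv q X A).apply_symm_apply x]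
  exact (K258.RelFrobHom.bcEquiv_left_fst q X A _).symm

theorem symm_mul {X : Over T} (x y : X ⟶ Red.bc q A) :
    (bcEquiv q X A).symm (x * y) = (bcEquiv q X A).symm x * (bcEquiv q X A).symm y :=
  (bcMulEquiv q X A).symm.map_mul x y

/-- Translations commute with base change. -/
theorem tr_pr (a : 𝟙_ (Over S) ⟶ A) (a' : 𝟙_ (Over T) ⟶ Red.bc q A)
    (h : q ≫ a.left = a'.left ≫ pr q A) : (tr a').left ≫ pr q A = pr q A ≫ (tr a).left := by
  let π : (Over.map q).obj (Red.bc q A) ⟶ A := (bcEquiv q _ A).symm (𝟙 (Red.bc q A))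
  have hπ : π.left = pr q A := by
    rw [symm_left]
    exact Category.id_comp _
  have h1 : (bcEquiv q _ A).symm (toUnit (Red.bc q A) ≫ a') = π ≫ toUnit A ≫ a := by
    ext1
    rw [symm_left, Over.comp_left, Over.comp_left, Over.comp_left, Category.assoc, ← h, hπ, Over.toUnit_left,
      Over.toUnit_left, ← Category.assoc, ← Category.assoc]
    congr 1
    exact (K258.AbBC.isPullback q A).w.symm
  have h2 : (bcEquiv q _ A).symm (tr a') = π ≫ tr a := by
    change (bcEquiv q _ A).symm (𝟙 (Red.bc q A) * (toUnit (Red.bc q A) ≫ a')) = π ≫ (𝟙 A * (toUnit A ≫ a))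
    rw [symm_mul, MonObj.comp_mul, Category.comp_id, h1]
  have h3 := congrArg (fun z => Over.Hom.left z) h2
  rw [symm_left] at h3
  rw [h3, Over.comp_left, hπ]

/-- The composite of two base changes. -/
theorem exists_comp {U : Scheme.{u}} (r : U ⟶ T) (h : U ⟶ S) (e : r ≫ q = h) :
    ∃ θ : Red.bc r (Red.bc q A) ≅ Red.bc h A, IsMonHom θ.hom ∧
      θ.hom.left ≫ pr h A = pr r (Red.bc q A) ≫ pr q A := by
  let X := Red.bc r (Red.bc q A)
  have hX : IsPullback (pr r (Red.bc q A) ≫ pr q A) X.hom A.hom h := by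
    have h1 := (K258.AbBC.isPullback r (Red.bc q A)).paste_horiz (K258.AbBC.isPullback q A)
    rwa [e] at h1
  let φ : (Over.map h).obj X ⟶ A := Over.homMk (pr r (Red.bc q A) ≫ pr q A) hX.w
  let θ : X ⟶ Red.bc h A := bcEquiv h X A φ
  have hθ : θ.left ≫ pr h A = pr r (Red.bc q A) ≫ pr q A := K258.RelFrobHom.bcEquiv_left_fst h X A φ
  have key : ∀ {Z : Over U} (x : Z ⟶ X), ∃ c : (Over.map h).obj Z ⟶ (Over.map q).obj ((Over.map r).obj Z),
      c.left = 𝟙 _ := fun {Z} x => ⟨Over.homMk (𝟙 _) (by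
        change 𝟙 _ ≫ (Z.hom ≫ r) ≫ q = Z.hom ≫ h
        rw [Category.id_comp, Category.assoc, e]), rfl⟩
  have hmon : IsMonHom θ := by
    apply Groth.Agent.Sga3B.Pts.isMonHom_of_points
    intro Z x y
    obtain ⟨c, hc⟩ := key x
    have h1 : ∀ z : Z ⟶ X, (Over.map h).map z ≫ φ =
        c ≫ (bcEquiv q _ A).symm ((bcEquiv r Z (Red.bc q A)).symm z) := by
      intro z
      ext1
      rw [Over.comp_left, Over.comp_left, hc, symm_left, symm_left, Category.id_comp, Category.assoc]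
      rfl
    rw [← comp_bcEquiv, ← comp_bcEquiv, ← comp_bcEquiv, h1, h1, h1, symm_mul, symm_mul, MonObj.comp_mul, bcEquiv_mul]
  have hiso : IsIso θ := by
    have h2 : IsIso θ.left := by
      have h3 : θ.left = (hX.isoIsPullback _ _ (K258.AbBC.isPullback h A)).hom := by
        apply (K258.AbBC.isPullback h A).hom_ext
        · rw [hθ, IsPullback.isoIsPullback_hom_fst]
        · rw [IsPullback.isoIsPullback_hom_snd]
          exact Over.w θ
      rw [h3]
      infer_instance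
    have : IsIso ((Over.forget U).map θ) := h2
    exact isIso_of_reflects_iso θ (Over.forget U)
  exact ⟨asIso θ, hmon, hθ⟩

/-- Comparison of two towers of base changes. -/
theorem exists_tower {T' U : Scheme.{u}} (r : U ⟶ T) (q' : T' ⟶ S) (r' : U ⟶ T') (e : r ≫ q = r' ≫ q') :
    ∃ θ : Red.bc r (Red.bc q A) ≅ Red.bc r' (Red.bc q' A), IsMonHom θ.hom ∧
      θ.hom.left ≫ pr r' (Red.bc q' A) ≫ pr q' A = pr r (Red.bc q A) ≫ pr q A := by
  obtain ⟨θ₁, h1, h2⟩ := exists_comp q A r (r ≫ q) rfl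
  obtain ⟨θ₂, h3, h4⟩ := exists_comp q' A r' (r ≫ q) e.symm
  refine ⟨θ₁ ≪≫ θ₂.symm, ?_, ?_⟩
  · rw [Iso.trans_hom]
    have : IsMonHom θ₂.symm.hom := inferInstanceAs (IsMonHom θ₂.inv)
    infer_instance
  · rw [← h4, ← h2, Iso.trans_hom, Over.comp_left, Category.assoc, ← Over.comp_left_assoc]
    change θ₁.hom.left ≫ (θ₂.inv ≫ θ₂.hom).left ≫ _ = _
    rw [Iso.inv_hom_id, Over.id_left, Category.id_comp]

end points

theorem inv_of_iso {X : Scheme.{u}} {L L' : X.Modules} (e : L ≅ L') (h : PicF.IsInvertible L) :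
    PicF.IsInvertible L' :=
  K451.DetPic.rank_one_iff.mp (K451.DetPic.rank_of_iso e (K451.DetPic.rank_one_iff.mpr h))

section iso

variable {A A' : Over S} [GrpObj A] [GrpObj A'] {g : ℕ}

theorem tr_iso (θ : A' ≅ A) [IsMonHom θ.hom] (a : 𝟙_ (Over S) ⟶ A) :
    tr (a ≫ θ.inv) ≫ θ.hom = θ.hom ≫ tr a := by
  change (𝟙 A' * (toUnit A' ≫ a ≫ θ.inv)) ≫ θ.hom = θ.hom ≫ (𝟙 A * (toUnit A ≫ a))
  rw [MonObj.mul_comp, MonObj.comp_mul, Category.id_comp, Category.comp_id, Category.assoc, Category.assoc,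
    Iso.inv_hom_id, Category.comp_id, ← Category.assoc, Subsingleton.elim (θ.hom ≫ toUnit A) (toUnit A')]

/-- The isomorphism in `HasPrinc` in terms of classes. -/
theorem iso_iff {B : Over S} (lam : A ⟶ B) {M : B.left.Modules} (hM : PicF.IsInvertible M)
    {L : A.left.Modules} (hL : PicF.IsInvertible L) (a : 𝟙_ (Over S) ⟶ A) :
    Nonempty (CohB1.tensorMod ((Scheme.Modules.pullback lam.left).obj M)
        ((Scheme.Modules.pullback A.hom).obj ((Scheme.Modules.pullback a.left).obj L)) ≅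
          (Scheme.Modules.pullback (tr a).left).obj L) ↔
      PicGrp.pull lam.left (PicGrp.mk M hM) * PicGrp.pull A.hom (PicGrp.pull a.left (PicGrp.mk L hL)) =
        PicGrp.pull (tr a).left (PicGrp.mk L hL) := by
  have h1 := isInvertible_pullback lam.left hM
  have h2 := isInvertible_pullback A.hom (isInvertible_pullback a.left hL)
  rw [← PicGrp.mk_eq_iff (isInvertible_tensorMod h1 h2) (isInvertible_pullback _ hL),
    ← PicGrp.mk_mul_mk h1 h2, PicGrp.pull_mk, PicGrp.pull_mk, PicGrp.pull_mk, PicGrp.pull_mk]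

/-- Transport of the class identity in `HasPrinc`. -/
theorem class_transport (θ : A' ≅ A) [IsMonHom θ.hom] {B : Over S} (lam : A ⟶ B) (m : PicGrp.Pic B.left)
    (l : PicGrp.Pic A.left) (a : 𝟙_ (Over S) ⟶ A)
    (h : PicGrp.pull lam.left m * PicGrp.pull A.hom (PicGrp.pull a.left l) = PicGrp.pull (tr a).left l) :
    PicGrp.pull (θ.hom ≫ lam).left m *
        PicGrp.pull A'.hom (PicGrp.pull (a ≫ θ.inv).left (PicGrp.pull θ.hom.left l)) =
      PicGrp.pull (tr (a ≫ θ.inv)).left (PicGrp.pull θ.hom.left l) := by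
  have h3 : PicGrp.pull θ.inv.left (PicGrp.pull θ.hom.left l) = l := by
    rw [← PicGrp.pull_comp, ← Over.comp_left, Iso.inv_hom_id, Over.id_left, PicGrp.pull_id]
  have h2 : ∀ z : PicGrp.Pic S, PicGrp.pull A'.hom z = PicGrp.pull θ.hom.left (PicGrp.pull A.hom z) := by
    intro z
    rw [← PicGrp.pull_comp, Over.w θ.hom]
  rw [Over.comp_left, PicGrp.pull_comp, Over.comp_left, PicGrp.pull_comp, h3, h2, ← map_mul, h,
    ← PicGrp.pull_comp, ← PicGrp.pull_comp, ← Over.comp_left, ← Over.comp_left, tr_iso]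

omit [GrpObj A] [GrpObj A'] in
theorem props_comp (θ : A' ≅ A) {B : Over S} (lam : A ⟶ B) (hfin : IsFinite lam.left) (hflat : Flat lam.left)
    (hsurj : Surjective lam.left) : IsFinite (θ.hom ≫ lam).left ∧ Flat (θ.hom ≫ lam).left ∧
      Surjective (θ.hom ≫ lam).left := by
  have hθ : IsIso θ.hom.left := inferInstanceAs (IsIso ((Over.forget S).map θ.hom))
  rw [Over.comp_left]
  exact ⟨inferInstance, inferInstance, inferInstance⟩

theorem pow_inv_iso (θ : A' ≅ A) [IsMonHom θ.hom] (a : 𝟙_ (Over S) ⟶ A) {n : ℕ} (ha : a ^ n = 1) :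
    (a ≫ θ.inv) ^ n = 1 := by
  have : IsMonHom θ.inv := inferInstance
  rw [← MonObj.pow_comp, ha, MonObj.one_comp]

/-- Principal reductions are transported by isomorphisms. -/
theorem hasPrinc_of_iso (θ : A' ≅ A) [IsMonHom θ.hom] {L : A.left.Modules} (hL : PicF.IsInvertible L)
    {L' : A'.left.Modules} (e : Nonempty ((Scheme.Modules.pullback θ.hom.left).obj L ≅ L'))
    (h : HasPrinc A g L) : HasPrinc A' g L' := by
  obtain ⟨B, iB, cB, lam, M, a, n, hmon, hfin, hflat, hsurj, D, hn, ha, hiso⟩ := h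
  have hL' : PicF.IsInvertible L' := inv_of_iso e.some (isInvertible_pullback _ hL)
  have hiso' := (iso_iff lam D.inv hL a).mp hiso
  obtain ⟨p1, p2, p3⟩ := props_comp θ lam hfin hflat hsurj
  have h1 : PicGrp.mk L' hL' = PicGrp.pull θ.hom.left (PicGrp.mk L hL) := by
    rw [PicGrp.pull_mk]
    exact ((PicGrp.mk_eq_iff _ _).mpr e).symm
  refine ⟨B, iB, cB, θ.hom ≫ lam, M, a ≫ θ.inv, n, inferInstance, p1, p2, p3, D, hn, pow_inv_iso θ a ha,
    (iso_iff (θ.hom ≫ lam) D.inv hL' (a ≫ θ.inv)).mpr ?_⟩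
  rw [h1]
  exact class_transport θ lam _ _ a hiso'

end iso

end K258.Theta
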