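import Groth.Agent.AbDual.K732.PrincIso
import Groth.Agent.AbVar.K526.Inst
import Groth.Agent.AbVar.K516.HomFin
import Groth.Agent.AbSch.K258.AmpVan
import Groth.Agent.AbSch.K258.RankFib
import Groth.Agent.AbSch.K258.DatDef
import Groth.Agent.AbSch.K258.Theta
import Groth.Agent.Ega2.H275.RelDesc
import Groth.Agent.AgPol.K438.Prod
import Groth.Agent.VarietyA.EulerAdd
import Groth.Agent.S4381

/-!
# Symmetric ample modules on abelian varieties over algebraically closed fields reduce to principal data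

Node CLOSED of the plan for S14325.
-/

set_option autoImplicit false
universe u

open CategoryTheory MonoidalCategory CartesianMonoidalCategory MonObj GrpObj AlgebraicGeometry Limits Opposite
open Groth.Agent Groth.Agent.Grpsch Groth.Agent.Grpsch.Cube Groth.Agent.Fdesc.LocGen
open K258.KeyDat hiding tr

namespace K258.Closed

open PicGrp K518.Phi

section field

variable {k : Type u} [Field k] {B : Over (Spec (CommRingCat.of k))}

/-- Over a field the direct image of a relatively ample module on an abelian variety with one section is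
invertible. -/
theorem isInvertible_push [GrpObj B] {g : ℕ} (hB : AgPol.IsAbSch B g) {M : B.left.Modules}
    (hM : PicF.IsInvertible M) (hamp : RelAmple.IsRelAmple B.hom M)
    (h1 : @Module.finrank k (Coh.HH B.left M 0) _ _ (@Coh.moduleOver k _ B.left ⟨B.hom⟩ M 0) = 1) :
    PicF.IsInvertible ((Coh.push B.hom).obj M) := by
  have := hB.smooth
  have := hB.proper
  have := Groth.Agent.Dcoh.DerSch.hasInjectiveResolutions B.left
  have hlf := (K449.FibVan2.main B.hom M hM fun s p hp => K258.AmpVan.subsingleton_fiberH hB hamp hM s p hp).2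
  rw [← K451.DetPic.rank_one_iff]
  intro s
  obtain ⟨U, n, hs, e⟩ := hlf s
  obtain ⟨b, hb⟩ := Groth.Agent.Sga67.LocBasis.nonempty_restrict_iso_iff.mp e
  have hU : U = ⊤ := by
    ext x
    have hx : x = s := Subsingleton.elim (α := PrimeSpectrum k) x s
    simp [hx, hs]
  subst hU
  have h2 := K258.RankFib.finrank_push B.hom M
  have : Nontrivial Γ(Spec (CommRingCat.of k), ⊤) :=
    (Scheme.ΓSpecIso (CommRingCat.of k)).symm.commRingCatIsoToRingEquiv.toEquiv.symm.nontrivial
  have h3 : Module.finrank Γ(Spec (CommRingCat.of k), ⊤)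
      (Groth.Agent.Sga67.Sec.Sec ((Scheme.Modules.pushforward B.hom).obj M) ⊤) = n := by
    rw [Module.finrank_eq_card_basis (hb.basis le_rfl), Fintype.card_fin]
  have h4 : n = 1 := by rw [← h3, h2]; exact h1
  subst h4
  exact ⟨⊤, hs, e⟩

end field

section closed

variable {k : Type u} [Field k] [IsAlgClosed k]

theorem exists_section {P : Scheme.{u}} [Nonempty P] (p : P ⟶ Spec (CommRingCat.of k)) [LocallyOfFiniteType p] :
    ∃ s : Spec (CommRingCat.of k) ⟶ P, s ≫ p = 𝟙 _ := by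
  have : JacobsonSpace P := LocallyOfFiniteType.jacobsonSpace (Y := Spec _) p
  have hd : Dense (closedPoints P) := dense_iff_closure_eq.mpr closure_closedPoints
  obtain ⟨x, hx⟩ := hd.nonempty
  have hx' : IsClosed {x} := hx
  exact ⟨pointOfClosedPoint p x hx', by simp⟩

/-- Lifting points along finite surjective morphisms. -/
theorem exists_pt_lift {A B : Over (Spec (CommRingCat.of k))} [LocallyOfFiniteType A.hom] (f : A ⟶ B)
    [Surjective f.left] [IsFinite f.left] (b : Pt B) : ∃ a : Pt A, a ≫ f = b := by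
  let P := pullback f.left b.left
  have hne : Nonempty P := by
    have h1 : Surjective (pullback.snd f.left b.left) := inferInstance
    obtain ⟨x, -⟩ := h1.surj (IsLocalRing.closedPoint k : Spec (CommRingCat.of k))
    exact ⟨x⟩
  have hfin : IsFinite (pullback.snd f.left b.left) := inferInstance
  obtain ⟨s, hs⟩ := exists_section (pullback.snd f.left b.left)
  have hw : b.left ≫ B.hom = 𝟙 _ := Over.w b
  refine ⟨Over.homMk (s ≫ pullback.fst f.left b.left) ?_, ?_⟩
  · change (s ≫ pullback.fst f.left b.left) ≫ A.hom = 𝟙 _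
    rw [← Over.w f, Category.assoc, pullback.condition_assoc, hw, Category.comp_id]
    exact hs
  · ext1
    change (s ≫ pullback.fst f.left b.left) ≫ f.left = b.left
    rw [Category.assoc, pullback.condition, ← Category.assoc, hs, Category.id_comp]

variable {A : Over (Spec (CommRingCat.of k))} [GrpObj A] [IsProper A.hom] [GeometricallyIntegral A.hom]

/-- A point `a` with `t_a^* L` symmetric, `L` ample and symmetric, is torsion. -/
theorem exists_pow_eq_one [IsCommMonObj A] {L : A.left.Modules} (hL : CohB1.IsAmple L)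
    (h1 : pl (𝟙 A ^ (-1 : ℤ)) (mk L hL.1) = mk L hL.1) (a : Pt A)
    (h2 : pl (𝟙 A ^ (-1 : ℤ)) (pl (tr a) (mk L hL.1)) = pl (tr a) (mk L hL.1)) : ∃ n : ℕ, 1 ≤ n ∧ a ^ n = 1 := by
  have e1 : (𝟙 A ^ (-1 : ℤ) : A ⟶ A) ≫ tr a = tr a⁻¹ ≫ (𝟙 A ^ (-1 : ℤ)) := by
    rw [GrpObj.comp_zpow, Category.comp_id, MonObj.comp_mul, Category.comp_id, ← Category.assoc,
      Subsingleton.elim ((𝟙 A ^ (-1 : ℤ) : A ⟶ A) ≫ toUnit A) (toUnit A), zpow_neg_one, zpow_neg_one]
    change (𝟙 A)⁻¹ * (toUnit A ≫ a) = (𝟙 A * (toUnit A ≫ a⁻¹))⁻¹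
    rw [GrpObj.comp_inv, _root_.mul_inv, _root_.inv_inv]
  have e2 : phi (mk L hL.1) a⁻¹ = phi (mk L hL.1) a := by
    rw [phi, phi, ← h2, ← pl_comp, e1, pl_comp, h1]
  have e3 : phi (mk L hL.1) (a ^ 2) = 1 := by
    rw [phi_inv, inv_eq_iff_mul_eq_one] at e2
    rw [phi_pow, pow_two, e2]
  have hfin := K512.PhiSurj.finite_of_isAmple L hL
  have e4 : ∀ m : ℕ, (a ^ 2) ^ m ∈ {x : Pt A | pl (tr x) (mk L hL.1) = mk L hL.1} := by
    intro m
    have h3 : phi (mk L hL.1) ((a ^ 2) ^ m) = 1 := by rw [phi_pow, e3, one_pow]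
    rwa [phi, mul_inv_eq_one] at h3
  obtain ⟨m, m', hmm, h5⟩ : ∃ m m' : ℕ, m < m' ∧ (a ^ 2) ^ m = (a ^ 2) ^ m' := by
    have h6 : ¬ Function.Injective (fun m : ℕ => (a ^ 2) ^ m) := by
      intro hinj
      exact Set.infinite_of_injective_forall_mem hinj e4 hfin
    simp only [Function.Injective, not_forall] at h6
    obtain ⟨m, m', h7, h8⟩ := h6
    rcases lt_or_gt_of_ne h8 with h9 | h9
    · exact ⟨m, m', h9, h7⟩
    · exact ⟨m', m, h9, h7.symm⟩
  refine ⟨2 * (m' - m), by omega, ?_⟩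
  rw [pow_mul]
  have h7 : (a ^ 2) ^ m * (a ^ 2) ^ (m' - m) = (a ^ 2) ^ m * 1 := by
    rw [← pow_add, Nat.add_sub_cancel' hmm.le, _root_.mul_one]
    exact h5.symm
  exact mul_left_cancel h7

/-- Symmetric translate. -/
theorem exists_symm {M : A.left.Modules} (hM : CohB1.IsAmple M) :
    ∃ b : Pt A, pl (𝟙 A ^ (-1 : ℤ)) (pl (tr b) (mk M hM.1)) = pl (tr b) (mk M hM.1) := by
  have hcomm : IsCommMonObj A := isCommMonObj_of_isProper_of_geometricallyIntegral A
  have hmon : IsMonHom (𝟙 A ^ (-1 : ℤ) : A ⟶ A) := by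
    rw [zpow_neg_one]
    infer_instance
  let m := mk M hM.1
  have key : ∀ c ∈ Inv A, pl (𝟙 A ^ (-1 : ℤ)) c = c⁻¹ := by
    intro c hc
    rw [pl_zpow_of_inv hc, pl_id, zpow_neg_one]
  have h1 : pl (𝟙 A ^ (-1 : ℤ)) m * m⁻¹ ∈ Inv A := by
    rw [← phi_eq_iff]
    intro x
    rw [phi_pl, key _ (phi_mem_Inv m _), GrpObj.comp_zpow, Category.comp_id, phi_zpow, zpow_neg_one, _root_.inv_inv]
  obtain ⟨b, hb⟩ := K526.Inst.surj_ample hM 2 (by omega) _ h1
  refine ⟨b, ?_⟩
  rw [pl_tr, map_mul, key _ (phi_mem_Inv m b)]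
  have h2 : pl (𝟙 A ^ (-1 : ℤ)) m = phi m b ^ 2 * m := by
    rw [hb, inv_mul_cancel_right]
  change (phi m b)⁻¹ * pl (𝟙 A ^ (-1 : ℤ)) m = phi m b * m
  rw [h2, pow_two, _root_.mul_assoc, inv_mul_cancel_left]

end closed

section main

variable (k : Type u) [Field k] [IsAlgClosed k]

/-- The number of sections of an ample module of Euler characteristic one. -/
theorem finrank_eq_one {B : Over (Spec (CommRingCat.of k))} [GrpObj B] [IsProper B.hom]
    [GeometricallyIntegral B.hom] [Smooth B.hom] [GeometricallyConnected B.hom] {M : B.left.Modules}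
    (hM : CohB1.IsAmple M) (h : K524.Chi.chi (X := B) (mk M hM.1) = 1) :
    @Module.finrank k (Coh.HH B.left M 0) _ _ (@Coh.moduleOver k _ B.left ⟨B.hom⟩ M 0) = 1 := by
  let i1 : B.left.Over (Spec (CommRingCat.of k)) := ⟨B.hom⟩
  rw [K524.Chi.chi_mk, Groth.Agent.VarietyA.EulerAdd.euler_eq_sum k M 1
    fun p hp => (Groth.Agent.S14124.result k B _ hM).1 p (by omega)] at h
  simp only [Finset.range_one, Finset.sum_singleton, pow_zero] at h
  have h2 := (_root_.one_mul _).symm.trans h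
  exact_mod_cast h2

/-- **NODE CLOSED.** -/
theorem hasPrinc_closed (A : Over (Spec (CommRingCat.of k))) [GrpObj A]
    [IsCommMonObj A] {g : ℕ} (hA : AgPol.IsAbSch A g) (L : A.left.Modules) (hL : CohB1.IsAmple L)
    (hsym : Nonempty ((Scheme.Modules.pullback (𝟙 A ^ (-1 : ℤ)).left).obj L ≅ L)) : HasPrinc A g L := by
  have iA1 := hA.smooth
  have iA2 := hA.proper
  have iA3 := K451.Prod.geometricallyIntegral_of_isAbSch hA
  obtain ⟨B, gB, b1, b2, f, M, hf1, hf2, hf3, e, -, hM, hchi⟩ := K732.PrincIso.exists_chi_one A L hL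
  have cB : IsCommMonObj B := isCommMonObj_of_isProper_of_geometricallyIntegral B
  have b3 : Smooth B.hom := K449.Basic.smooth B
  have b4 : GeometricallyConnected B.hom := K732.Isog.geomConn_of_geomInt B.hom
  obtain ⟨b, hb⟩ := exists_symm hM
  let M' := (Scheme.Modules.pullback (tr b).left).obj M
  have hM'i : PicF.IsInvertible M' := isInvertible_pullback _ hM.1
  have hM'c : mk M' hM'i = pl (tr b) (mk M hM.1) := (pull_mk _ _).symm
  obtain ⟨a, ha⟩ := exists_pt_lift f b
  have hl : pl f (mk M hM.1) = mk L hL.1 := (pull_mk _ _).trans ((mk_eq_iff _ _).mpr e)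
  have htr : pl f (mk M' hM'i) = pl (tr a) (mk L hL.1) := by
    rw [hM'c, ← pl_comp, ← ha, ← tr_comp, pl_comp, hl]
  have hsymL : pl (𝟙 A ^ (-1 : ℤ)) (mk L hL.1) = mk L hL.1 := (pull_mk _ _).trans ((mk_eq_iff _ _).mpr hsym)
  have hneg : (𝟙 A ^ (-1 : ℤ) : A ⟶ A) ≫ f = f ≫ (𝟙 B ^ (-1 : ℤ)) := by
    rw [GrpObj.comp_zpow, GrpObj.zpow_comp, Category.comp_id, Category.id_comp]
  obtain ⟨n, hn, han⟩ := exists_pow_eq_one hL hsymL a (by
    rw [← htr, ← pl_comp, hneg, pl_comp, hM'c, hb])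
  -- the target
  have hdim : topologicalKrullDim B.left = g := by
    rw [← K438.Level.krullDim_left hA]
    exact (Groth.Agent.Sga3C.DimTop.topologicalKrullDim_eq_of_isIntegralHom f.left).symm
  have hB : AgPol.IsAbSch B g := K438.NE.isAbSch_of_dim b3 b1 b4 hdim
  have hampM' : RelAmple.IsRelAmple B.hom M' := by
    have htri : IsIso (tr b).left := K258.Theta.isIso_tr_left b
    have h1 := Groth.Agent.Ega2.H275.RelDesc.isRelAmple_pullback B.hom (tr b).left
      ((Groth.Agent.S4381.result B.hom M).mpr hM)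
    rwa [Over.w] at h1
  have hM' : CohB1.IsAmple M' := (Groth.Agent.S4381.result B.hom M').mp hampM'
  have hchi' : K524.Chi.chi (X := B) (mk M' hM'.1) = 1 := by
    have h1 : mk M' hM'.1 = mk M hM.1 * K506.Transl.phi (mk M hM.1) b := by
      rw [hM'c, K506.Transl.phi, mul_comm (mk M hM.1), inv_mul_cancel_right]
    rw [h1, K524.Chi.chi_mul_phi, hchi]
  refine ⟨B, gB, cB, f, M', a, n, hf1, hf2, K516.HomFin.flat_left f, hf3, ⟨hB, hM'i, ?_, ?_, hampM',
    isInvertible_push hB hM'i hampM' (finrank_eq_one k hM' hchi')⟩, hn, han, ?_⟩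
  · exact (mk_eq_one_iff (isInvertible_pullback _ hM'i)).mp (pic_spec_local k _)
  · refine (mk_eq_iff (isInvertible_pullback _ hM'i) hM'i).mp ?_
    rw [← pull_mk _ hM'i, hM'c]
    exact hb
  · refine (K258.Theta.iso_iff f hM'i hL.1 a).mpr ?_
    have h1 : pull a.left (mk L hL.1) = 1 := pic_spec_local k _
    rw [h1, map_one, _root_.mul_one]
    exact htr

end main

end K258.Closed
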