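import Groth.Prelude.Def_Frob
import Mathlib.RingTheory.Bialgebra.Convolution
import Mathlib.LinearAlgebra.Dual.Lemmas

/-!
# Points with trivial Frobenius of a finite cocommutative bialgebra are killed by `p`
-/

set_option autoImplicit false
universe u

open WithConv

namespace K258.ConvFrob

variable {R B C : Type u} [CommRing R] [CommRing B] [Bialgebra R B] [Coalgebra.IsCocomm R B]
  [CommRing C] [Algebra R C]

omit [Coalgebra.IsCocomm R B] in
theorem natCast_eq_zero (p : ℕ) (hp : (p : C) = 0) : (p : WithConv (B →ₗ[R] C)) = 0 := by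
  rw [← map_natCast (algebraMap C (WithConv (B →ₗ[R] C))) p, hp, map_zero]

/-- In a commutative ring with `p = 0` the `p`-th powers of `∑ a i • f i` only depend on `a i ^ p`. -/
theorem sum_pow_eq {Q : Type u} [CommRing Q] [Algebra C Q] (p : ℕ) [Fact p.Prime] (hp : (p : Q) = 0)
    {ι : Type*} (s : Finset ι) (a b : ι → C) (f : ι → Q) (h : ∀ i ∈ s, a i ^ p = b i ^ p) :
    (∑ i ∈ s, a i • f i) ^ p = (∑ i ∈ s, b i • f i) ^ p := by
  have key : ∀ c : ι → C, (∑ i ∈ s, c i • f i) ^ p = ∑ i ∈ s, (c i ^ p) • (f i ^ p) := by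
    intro c
    change FrobSch.powHom p Q hp (∑ i ∈ s, c i • f i) = _
    rw [map_sum]
    refine Finset.sum_congr rfl fun i _ => ?_
    rw [FrobSch.powHom_apply, smul_pow]
  rw [key, key]
  exact Finset.sum_congr rfl fun i hi => by rw [h i hi]

theorem linear_pow_eq [Module.Finite R B] [Module.Projective R B] (p : ℕ) [Fact p.Prime] (hp : (p : C) = 0)
    (x y : WithConv (B →ₗ[R] C)) (h : ∀ b, x b ^ p = y b ^ p) : x ^ p = y ^ p := by
  obtain ⟨n, f, g, hf, hg, hfg⟩ := Module.Finite.exists_comp_eq_id_of_projective R B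
  let φ : Fin n → WithConv (B →ₗ[R] C) := fun i =>
    toConv ((Algebra.linearMap R C).comp ((LinearMap.proj i).comp g))
  have key : ∀ z : WithConv (B →ₗ[R] C), z = ∑ i, z (f (Pi.single i 1)) • φ i := by
    intro z
    apply WithConv.ext
    apply LinearMap.ext
    intro b
    have h1 : b = ∑ i, (g b i) • f (Pi.single i 1) := by
      conv_lhs => rw [← LinearMap.id_apply (R := R) b, ← hfg, LinearMap.comp_apply,
        LinearMap.pi_apply_eq_sum_univ f (g b)]
      refine Finset.sum_congr rfl fun i _ => ?_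
      congr 2
      ext j
      simp [Pi.single_apply, eq_comm]
    have h2 : (∑ i, z (f (Pi.single i 1)) • φ i).ofConv b = ∑ i, z (f (Pi.single i 1)) * algebraMap R C (g b i) := by
      rw [WithConv.ofConv_sum, LinearMap.sum_apply]
      rfl
    rw [h2]
    conv_lhs => rw [h1, map_sum]
    refine Finset.sum_congr rfl fun i _ => ?_
    rw [map_smul, Algebra.smul_def, mul_comm]
  rw [key x, key y]
  exact sum_pow_eq p (natCast_eq_zero p hp) _ _ _ _ fun i _ => h _

/-- A point `x` of a finite cocommutative bialgebra with trivial Frobenius is killed by `p`. -/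
theorem pow_eq_one [Module.Finite R B] [Module.Projective R B] (p : ℕ) [Fact p.Prime] (hp : (p : C) = 0)
    (x : WithConv (B →ₐ[R] C)) (h : ∀ b, x b ^ p = algebraMap R C (Coalgebra.counit b) ^ p) : x ^ p = 1 := by
  have h1 := linear_pow_eq p hp (toConv x.ofConv.toLinearMap) 1 (fun b => by
    rw [LinearMap.convOne_apply]
    exact h b)
  rw [← AlgHom.toLinearMap_convPow, one_pow, ← AlgHom.toLinearMap_convOne] at h1
  apply WithConv.ext
  apply AlgHom.toLinearMap_injective
  exact congrArg WithConv.ofConv h1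

end K258.ConvFrob
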