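import Groth.Agent.AbSch.K258.AmpVan
import Groth.Agent.AbSch.K258.RankFib
import Groth.Agent.AbSch.K450.RRChi
import Groth.Agent.S4387
import Groth.Agent.Grpsch.CubeClosed
import Groth.Agent.Desc.FinLocFreeSections
import Groth.Agent.Dcoh.DerSch
import Groth.Agent.VarietyA.EulerAdd
import Groth.Agent.S16761

/-!
# Direct images of relatively ample modules on abelian schemes
-/

set_option autoImplicit false
universe u

open CategoryTheory MonoidalCategory CartesianMonoidalCategory MonObj GrpObj AlgebraicGeometry Limits Opposite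
open Groth.Agent Groth.Agent.Grpsch Groth.Agent.Fdesc.LocGen

namespace K258.PushBase

variable {S : Scheme.{u}} {A : Over S} [GrpObj A] {g : ℕ} {L : A.left.Modules}

/-- `f_* L` is finite locally free. -/
theorem isFinLocFree_push (hA : AgPol.IsAbSch A g) (hL : PicF.IsInvertible L) (hamp : RelAmple.IsRelAmple A.hom L) :
    FlatMod.IsFinLocFree ((Coh.push A.hom).obj L) := by
  have := hA.smooth
  have := hA.proper
  have := Groth.Agent.Dcoh.DerSch.hasInjectiveResolutions A.left
  exact (K449.FibVan2.main A.hom L hL fun s p hp => K258.AmpVan.subsingleton_fiberH hA hamp hL s p hp).2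

/-- `f_* L` commutes with base change. -/
theorem isIso_bc0 (hA : AgPol.IsAbSch A g) (hL : PicF.IsInvertible L) (hamp : RelAmple.IsRelAmple A.hom L)
    {T X' : Scheme.{u}} (q : T ⟶ S) (f' : X' ⟶ T) (q' : X' ⟶ A.left) (hsq : IsPullback q' f' A.hom q) :
    IsIso (CohBC.bc0 A.hom q f' q' hsq.w L) := by
  have := hA.smooth
  have := hA.proper
  have := Groth.Agent.Dcoh.DerSch.hasInjectiveResolutions A.left
  have h1 := (Groth.Agent.S16761.result A.hom L
    (Groth.Agent.Desc.FinLocFreeSections.isFP_of_isFinLocFree (K451.DetPic.isFinLocFree_of_rank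
      (K451.DetPic.rank_one_iff.mpr hL))) (Groth.Agent.Grpsch.CubeClosed.isFlatOver_of_isInvertible A.hom hL) g
    (fun s => (hA.fibreDim s).le)).2 ⊤ (fun s _ p hp => K258.AmpVan.subsingleton_fiberH hA hamp hL s p hp)
  exact h1.2.2 T X' q f' q' hsq (fun _ _ => trivial)

/-- The rank of `f_* L`. -/
theorem isFinLocFreeOfRank (hA : AgPol.IsAbSch A g) (hL : PicF.IsInvertible L) (hamp : RelAmple.IsRelAmple A.hom L)
    {r : ℕ} (hr : ∀ s : S, CohIII.fiberRank A.hom L 0 s = r) :
    FlatMod.IsFinLocFreeOfRank r ((Coh.push A.hom).obj L) :=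
  K258.RankFib.isFinLocFreeOfRank A.hom L (isFinLocFree_push hA hL hamp)
    (fun s => isIso_bc0 hA hL hamp _ _ _ (IsPullback.of_hasPullback A.hom (S.fromSpecResidueField s))) hr

theorem fiberRank_eq (hA : AgPol.IsAbSch A g) (hL : PicF.IsInvertible L) (hamp : RelAmple.IsRelAmple A.hom L)
    {r : ℕ} (hr : FlatMod.IsFinLocFreeOfRank r ((Coh.push A.hom).obj L)) (s : S) :
    CohIII.fiberRank A.hom L 0 s = r := by
  obtain ⟨U, hs, e⟩ := hr s
  obtain ⟨b, hb⟩ := Groth.Agent.Sga67.LocBasis.nonempty_restrict_iso_iff.mp e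
  exact K258.RankFib.fiberRank_eq A.hom L s hb hs
    (isIso_bc0 hA hL hamp _ _ _ (IsPullback.of_hasPullback A.hom (S.fromSpecResidueField s)))

theorem euler_eq_fiberRank (hA : AgPol.IsAbSch A g) (hL : PicF.IsInvertible L) (hamp : RelAmple.IsRelAmple A.hom L)
    (s : S) : @Curv2.euler (S.residueField s) _ (A.hom.fiber s) ⟨A.hom.fiberToSpecResidueField s⟩
      (CohIII.fiberMod A.hom L s) = CohIII.fiberRank A.hom L 0 s := by
  let iY : (A.hom.fiber s).Over (Spec (CommRingCat.of (S.residueField s))) := ⟨A.hom.fiberToSpecResidueField s⟩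
  rw [Groth.Agent.VarietyA.EulerAdd.euler_eq_sum (S.residueField s) (CohIII.fiberMod A.hom L s) 1
    fun p hp => K258.AmpVan.subsingleton_fiberH hA hamp hL s p hp]
  simp only [Finset.range_one, Finset.sum_singleton, pow_zero]
  exact _root_.one_mul _

open Groth.Agent.Fga.PicMon in
/-- Riemann-Roch on the fibres. -/
theorem fiberRank_tensorPow (hA : AgPol.IsAbSch A g) (hL : PicF.IsInvertible L)
    (hamp : RelAmple.IsRelAmple A.hom L) (n : ℕ) (hn : 1 ≤ n) (s : S) :
    CohIII.fiberRank A.hom (CohB1.tensorPow L n) 0 s = n ^ g * CohIII.fiberRank A.hom L 0 s := by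
  have := hA.smooth
  have := hA.proper
  let X := Red.bc (S.fromSpecResidueField s) A
  have hX : AgPol.IsAbSch X g := K258.AbBC.isAbSch (S.fromSpecResidueField s) A hA
  have hXp : IsProper X.hom := hX.proper
  have hXi : GeometricallyIntegral X.hom := K451.Prod.geometricallyIntegral_of_isAbSch hX
  have hXd : topologicalKrullDim ↥X.left = g := hA.fibreDim s
  have hpow := isInvertible_tensorPow hL n
  have hamp' : RelAmple.IsRelAmple A.hom (CohB1.tensorPow L n) :=
    (Groth.Agent.S4387.result A.hom L hL n hn).mp hamp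
  let Ls : X.left.Modules := (Scheme.Modules.pullback (K258.AbBC.pr (S.fromSpecResidueField s) A)).obj L
  have hLs : PicF.IsInvertible Ls := isInvertible_pullback _ hL
  have h1 := K450.RRChi.chi_pow (S.residueField s) X g hXd Ls hLs n
  obtain ⟨e⟩ := K450.RRChi.nonempty_pull_tensorPow (K258.AbBC.pr (S.fromSpecResidueField s) A) hL n
  rw [← mc_tensorPow, ← mc_eq e] at h1
  have h5 := K450.RRChi.chi_mc (S.residueField s) X g hXd
    ((Scheme.Modules.pullback (K258.AbBC.pr (S.fromSpecResidueField s) A)).obj (CohB1.tensorPow L n))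
  have h6 := K450.RRChi.chi_mc (S.residueField s) X g hXd Ls
  rw [h5, h6] at h1
  have h2 := euler_eq_fiberRank hA hpow hamp' s
  have h3 := euler_eq_fiberRank hA hL hamp s
  have h4 : ((CohIII.fiberRank A.hom (CohB1.tensorPow L n) 0 s : ℕ) : ℤ) =
      (n : ℤ) ^ g * (CohIII.fiberRank A.hom L 0 s : ℕ) := by
    rw [← h2, ← h3]
    exact h1
  exact_mod_cast h4

/-- The rank of the direct image of a power. -/
theorem rank_push_tensorPow (hA : AgPol.IsAbSch A g) (hL : PicF.IsInvertible L)
    (hamp : RelAmple.IsRelAmple A.hom L) {r : ℕ} (hr : FlatMod.IsFinLocFreeOfRank r ((Coh.push A.hom).obj L))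
    (n : ℕ) (hn : 1 ≤ n) :
    FlatMod.IsFinLocFreeOfRank (n ^ g * r) ((Coh.push A.hom).obj (CohB1.tensorPow L n)) := by
  have := hA.proper
  exact isFinLocFreeOfRank hA (isInvertible_tensorPow hL n) ((Groth.Agent.S4387.result A.hom L hL n hn).mp hamp)
    fun s => by rw [fiberRank_tensorPow hA hL hamp n hn s, fiberRank_eq hA hL hamp hr s]

end K258.PushBase
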