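import Groth.Agent.AbSch.K258.MulStep
import Groth.Agent.AbSch.K258.Theta
import Groth.Agent.CohqB.FinAmple

/-!
# Torsion of the key module of a module reducing to a principal datum
-/

set_option autoImplicit false
universe u

open CategoryTheory MonoidalCategory CartesianMonoidalCategory MonObj GrpObj AlgebraicGeometry Limits Opposite
open Groth.Agent Groth.Agent.Grpsch Groth.Agent.Fdesc.LocGen K258.KeyDat K451.OmegaBox K258.Theta

namespace K258.Torsion

variable {S : Scheme.{u}} {A : Over S} [GrpObj A] {g : ℕ} {L : A.left.Modules}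

theorem isPullback_tr (a : 𝟙_ (Over S) ⟶ A) : IsPullback (tr a).left A.hom A.hom (𝟙 S) := by
  have : IsIso (tr a).left := inferInstanceAs (IsIso ((Over.forget S).map (tr a)))
  exact IsPullback.of_horiz_isIso ⟨by rw [Over.w, Category.comp_id]⟩

/-- Translations do not change the direct image. -/
theorem nonempty_push_tr (hA : AgPol.IsAbSch A g) (hL : PicF.IsInvertible L) (hamp : RelAmple.IsRelAmple A.hom L)
    (a : 𝟙_ (Over S) ⟶ A) : Nonempty ((Coh.push A.hom).obj ((Scheme.Modules.pullback (tr a).left).obj L) ≅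
      (Coh.push A.hom).obj L) := by
  have := K258.PushBase.isIso_bc0 hA hL hamp (𝟙 S) A.hom (tr a).left (isPullback_tr a)
  exact ⟨(asIso (CohBC.bc0 A.hom (𝟙 S) A.hom (tr a).left (isPullback_tr a).w L)).symm ≪≫
    (Scheme.Modules.pullbackId S).app _⟩

/-- The restriction of a symmetric rigidified module along a torsion section is torsion. -/
theorem pull_section_pow [IsLocallyNoetherian S] (hA : AgPol.IsAbSch A g) (hL : PicF.IsInvertible L)
    (hrig : Nonempty ((Scheme.Modules.pullback (η[A] : 𝟙_ (Over S) ⟶ A).left).obj L ≅ Coh.structureModule S))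
    (hsym : Nonempty ((Scheme.Modules.pullback (𝟙 A ^ (-1 : ℤ)).left).obj L ≅ L)) (a : 𝟙_ (Over S) ⟶ A) (n : ℕ)
    (ha : a ^ n = 1) : PicGrp.pull a.left (PicGrp.mk L hL) ^ (n ^ 2) = 1 := by
  have h1 := K258.MulStep.nonempty_pow hA hL hrig hsym (n : ℤ)
  rw [Int.natAbs_natCast] at h1
  have h2 := (PicGrp.mk_eq_iff (isInvertible_pullback (𝟙 A ^ (n : ℤ)).left hL) (isInvertible_tensorPow hL _)).mpr h1
  rw [PicGrp.mk_tensorPow hL, ← PicGrp.pull_mk _ hL] at h2
  have h3 := congrArg (PicGrp.pull a.left) h2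
  rw [map_pow, ← PicGrp.pull_comp] at h3
  have h4 : a.left ≫ (𝟙 A ^ (n : ℤ) : A ⟶ A).left = (η[A] : 𝟙_ (Over S) ⟶ A).left := by
    rw [← Over.comp_left, GrpObj.comp_zpow, Category.comp_id, zpow_natCast, ha]
    exact congrArg CommaMorphism.left (MonObj.one_eq_one (M := A)).symm
  rw [← h3, h4]
  rw [PicGrp.pull_mk]
  exact (PicGrp.mk_eq_one_iff _).mpr hrig

omit [GrpObj A] in
/-- Twisting by the base. -/
theorem nonempty_push_twist (N : A.left.Modules) {P : S.Modules} (hP : PicF.IsInvertible P) :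
    Nonempty (CohB1.tensorMod ((Coh.push A.hom).obj N) P ≅
      (Coh.push A.hom).obj (CohB1.tensorMod N ((Scheme.Modules.pullback A.hom).obj P))) := by
  obtain ⟨e⟩ := Groth.Agent.CohqB.FinAmple.nonempty_push_tw A.hom hP N 1
  have hfP := isInvertible_pullback A.hom hP
  have h1 : Nonempty (CohB1.tensorPow P 1 ≅ P) := by
    rw [← PicGrp.mk_eq_iff (isInvertible_tensorPow hP 1) hP, PicGrp.mk_tensorPow, pow_one]
  have h2 : Nonempty (CohB1.tensorPow ((Scheme.Modules.pullback A.hom).obj P) 1 ≅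
      (Scheme.Modules.pullback A.hom).obj P) := by
    rw [← PicGrp.mk_eq_iff (isInvertible_tensorPow hfP 1) hfP, PicGrp.mk_tensorPow, pow_one]
  obtain ⟨i1⟩ := h1
  obtain ⟨i2⟩ := h2
  exact ⟨Ega2.Tens.mapTIso (Iso.refl _) i1.symm ≪≫ e ≪≫
    (Coh.push A.hom).mapIso (Ega2.Tens.mapTIso (Iso.refl _) i2)⟩

theorem rank_untwist {d : ℕ} {E P : S.Modules} (hP : PicF.IsInvertible P)
    (h : FlatMod.IsFinLocFreeOfRank d (CohB1.tensorMod E P)) : FlatMod.IsFinLocFreeOfRank d E := by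
  obtain ⟨Q, hQ, h1⟩ := PicGrp.exists_mk (PicGrp.mk P hP)⁻¹
  have h2 : Nonempty (CohB1.tensorMod P Q ≅ Coh.structureModule S) := by
    rw [← PicGrp.mk_eq_one_iff (isInvertible_tensorMod hP hQ), ← PicGrp.mk_mul_mk hP hQ, ← h1, mul_inv_cancel]
  obtain ⟨i⟩ := h2
  have h3 := K451.DetPic.rank_tensor h (K451.DetPic.rank_one_iff.mpr hQ)
  rw [_root_.mul_one] at h3
  exact K451.DetPic.rank_of_iso (Ega2.Tens.assoc E P Q ≪≫ Ega2.Tens.mapTIso (Iso.refl E) i ≪≫
    Ega2.Tens.runit E) h3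

/-- **The key module of `L` is torsion if `(A, L)` reduces to a principal datum with torsion key module.** -/
theorem main [IsNoetherian S] [IsCommMonObj A] (hA : AgPol.IsAbSch A g) (hL : PicF.IsInvertible L)
    (hrig : Nonempty ((Scheme.Modules.pullback (η[A] : 𝟙_ (Over S) ⟶ A).left).obj L ≅ Coh.structureModule S))
    (hsym : Nonempty ((Scheme.Modules.pullback (𝟙 A ^ (-1 : ℤ)).left).obj L ≅ L))
    (hamp : RelAmple.IsRelAmple A.hom L) {d : ℕ} (hfree : FlatMod.IsFinLocFreeOfRank d ((Coh.push A.hom).obj L))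
    (hkill : ∀ (B : Over S) [GrpObj B] [IsCommMonObj B], AgPol.IsAbSch B g → ∀ (lam : A ⟶ B) [IsMonHom lam],
      IsFinite lam.left → Flat lam.left → ∃ m : ℕ, 1 ≤ m ∧ ∀ (T : Over S) (x : T ⟶ A), x ≫ lam = 1 → x ^ m = 1)
    (h : HasPrinc A g L)
    (H : ∀ (B : Over S) [GrpObj B] [IsCommMonObj B] (M : B.left.Modules) (D : Dat B g M),
      ∃ k : ℕ, 1 ≤ k ∧ delta D ^ k = 1) :
    ∃ k : ℕ, 1 ≤ k ∧
      (K451.DetPic.det d _ hfree ^ 2 * K451.DetPic.det g (om A) (isFinLocFreeOfRank_om hA) ^ d) ^ k = 1 := by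
  obtain ⟨B, iB, cB, lam, M, a, n, hmon, hfin, hflat, hsurj, D, hn, ha, ⟨e⟩⟩ := h
  obtain ⟨m, hm, hker⟩ := hkill B D.ab lam hfin hflat
  obtain ⟨k, hk, hδ⟩ := H B M D
  let N := (Scheme.Modules.pullback lam.left).obj M
  let P : S.Modules := (Scheme.Modules.pullback a.left).obj L
  have hP : PicF.IsInvertible P := isInvertible_pullback _ hL
  obtain ⟨e1⟩ := nonempty_push_tr hA hL hamp a
  obtain ⟨e2⟩ := nonempty_push_twist (A := A) N hP
  have e3 : CohB1.tensorMod ((Coh.push A.hom).obj N) P ≅ (Coh.push A.hom).obj L :=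
    e2 ≪≫ (Coh.push A.hom).mapIso e ≪≫ e1
  have hNP : FlatMod.IsFinLocFreeOfRank d (CohB1.tensorMod ((Coh.push A.hom).obj N) P) :=
    K451.DetPic.rank_of_iso e3.symm hfree
  have hN := rank_untwist hP hNP
  have hP1 := K451.DetPic.rank_one_iff.mpr hP
  have h1 := formula hA lam hfin hflat hsurj m hm hker D N ⟨Iso.refl _⟩ d hN
  have h2 : K451.DetPic.det d _ hfree = K451.DetPic.det d _ hN * PicGrp.mk P hP ^ d := by
    rw [← K451.DetPic.det_congr (K451.DetPic.rank_tensor hN hP1) hfree (_root_.mul_one d) e3,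
      K451.DetPic.det_tensor hN hP1, pow_one, K451.DetPic.det_one hP1 hP]
  have h3 : PicGrp.mk P hP ^ (n ^ 2) = 1 := by
    rw [← PicGrp.pull_mk a.left hL]
    exact pull_section_pow hA hL hrig hsym a n ha
  refine ⟨m * k * n ^ 2, Nat.mul_pos (Nat.mul_pos hm hk) (Nat.pow_pos hn), ?_⟩
  have h4 : K451.DetPic.det d _ hfree ^ 2 * K451.DetPic.det g (om A) (isFinLocFreeOfRank_om hA) ^ d =
      (K451.DetPic.det d _ hN ^ 2 * K451.DetPic.det g (om A) (isFinLocFreeOfRank_om hA) ^ d) *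
        (PicGrp.mk P hP) ^ (2 * d) := by
    rw [h2, mul_pow, ← pow_mul, mul_comm d 2]
    exact mul_right_comm _ _ _
  rw [h4, mul_pow]
  have h5 : ((PicGrp.mk P hP) ^ (2 * d)) ^ (m * k * n ^ 2) = 1 := by
    rw [← pow_mul, show 2 * d * (m * k * n ^ 2) = n ^ 2 * (2 * d * (m * k)) by ring, pow_mul, h3, one_pow]
  rw [h5, _root_.mul_one, pow_mul, pow_mul, h1, ← pow_mul (delta D) (m * d) k, Nat.mul_comm (m * d) k, pow_mul, hδ,
    one_pow, one_pow]

end K258.Torsion
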