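import Groth.Agent.AbSch.K258.DatDef
import Groth.Prelude.Def_EGA4b
import Groth.Prelude.Def_Pi1
import Mathlib.RingTheory.RegularLocalRing.Defs

/-!
# Generic points with values in a field
-/

set_option autoImplicit false
universe u

open CategoryTheory MonoidalCategory CartesianMonoidalCategory MonObj GrpObj AlgebraicGeometry Limits Opposite
open Groth.Agent.Grpsch K258.KeyDat

namespace K258.PlanKey

/-- `ξ` is the generic point of the integral scheme `S`, with the function field identified with `K`. -/
def IsGenPt {S : Scheme.{u}} [IsIntegral S] {K : Type u} [Field K] (ξ : Spec (CommRingCat.of K) ⟶ S) : Prop :=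
  ∃ e : S.functionField ≃+* K, ξ = Spec.map (CommRingCat.ofHom e.toRingHom) ≫ S.fromSpecStalk (genericPoint S)

end K258.PlanKey
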