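import Groth.Agent.AbSch.K258.Gen
import Groth.Agent.AbSch.K258.Theta
import Groth.Agent.AbSch.K258.PushBase
import Groth.Agent.AbSch.K258.Torsion
import Groth.Agent.AbSch.K424.PicGen
import Groth.Agent.Variety.K431.SecExt
import Groth.Agent.S4470
import Groth.Agent.S12128

/-!
# Extension of a principal reduction from the generic point
-/

set_option autoImplicit false
universe u

open CategoryTheory MonoidalCategory CartesianMonoidalCategory MonObj GrpObj AlgebraicGeometry Limits Opposite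
open Groth.Agent Groth.Agent.Grpsch Groth.Agent.Fdesc.LocGen K258.KeyDat K258.AbBC K258.PlanKey K258.Theta

namespace K258.Extend

theorem pull_spec {K : Type u} [Field K] {X : Scheme.{u}} (f : Spec (CommRingCat.of K) ⟶ X) (c : PicGrp.Pic X) :
    PicGrp.pull f c = 1 := PicGrp.pic_spec_local K _

/-- Relative ampleness is unchanged by twists by the base. -/
theorem isRelAmple_twist {X S : Scheme.{u}} (f : X ⟶ S) [IsProper f] [LocallyOfFinitePresentation f]
    {L L' : X.Modules} (hL : PicF.IsInvertible L) (hL' : PicF.IsInvertible L') (P : PicGrp.Pic S)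
    (h : PicGrp.mk L' hL' = PicGrp.mk L hL * PicGrp.pull f P) (hamp : RelAmple.IsRelAmple f L) :
    RelAmple.IsRelAmple f L' := by
  rw [Groth.Agent.S12128.result f L hL] at hamp
  rw [Groth.Agent.S12128.result f L' hL']
  intro s
  have h1 : PicGrp.pull (f.fiberι s) (PicGrp.mk L' hL') = PicGrp.pull (f.fiberι s) (PicGrp.mk L hL) := by
    rw [h, map_mul, ← PicGrp.pull_comp, f.fiber_fac s, PicGrp.pull_comp,
      show PicGrp.pull (S.fromSpecResidueField s) P = 1 from
        pull_spec (K := S.residueField s) (S.fromSpecResidueField s) P, map_one, _root_.mul_one]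
  rw [PicGrp.pull_mk, PicGrp.pull_mk, PicGrp.mk_eq_iff] at h1
  exact Groth.Agent.Flat2H.FamDict.isAmple_of_iso h1.some.symm (hamp s)

section neg

variable {S : Scheme.{u}} {A B : Over S} [GrpObj A] [GrpObj B]

theorem comp_neg [IsCommMonObj A] [IsCommMonObj B] (lam : A ⟶ B) [IsMonHom lam] :
    lam ≫ (𝟙 B ^ (-1 : ℤ)) = (𝟙 A ^ (-1 : ℤ)) ≫ lam := by
  rw [GrpObj.comp_zpow, GrpObj.zpow_comp, Category.comp_id, Category.id_comp]

theorem unit_neg : (η[A] : 𝟙_ (Over S) ⟶ A) ≫ (𝟙 A ^ (-1 : ℤ)) = η[A] := by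
  rw [GrpObj.comp_zpow, Category.comp_id, MonObj.one_eq_one, one_zpow]

theorem unit_tr (a : 𝟙_ (Over S) ⟶ A) : (η[A] : 𝟙_ (Over S) ⟶ A) ≫ tr a = a := by
  change η[A] ≫ (𝟙 A * (toUnit A ≫ a)) = a
  rw [MonObj.comp_mul, Category.comp_id, MonObj.one_eq_one, _root_.one_mul, ← Category.assoc,
    Subsingleton.elim ((1 : 𝟙_ (Over S) ⟶ A) ≫ toUnit A) (𝟙 _), Category.id_comp]

end neg

variable {V : Scheme.{u}} [IsIntegral V] [IsNoetherian V] {K : Type u} [Field K]
  {ξ : Spec (CommRingCat.of K) ⟶ V}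

/-- **Extension of a principal reduction from the generic point of a regular scheme.** -/
theorem core (hreg : ∀ x : V, IsRegularLocalRing (V.presheaf.stalk x)) (hV : Pi1.IsNormalScheme V)
    (hξ : IsGenPt ξ) {A B : Over V} [GrpObj A] [IsCommMonObj A] [GrpObj B] [IsCommMonObj B] {g : ℕ}
    (hA : AgPol.IsAbSch A g) (hB : AgPol.IsAbSch B g) {L : A.left.Modules} (hL : PicF.IsInvertible L)
    (hamp : RelAmple.IsRelAmple A.hom L)
    (lam : A ⟶ B) [IsMonHom lam] (hfin : IsFinite lam.left) (hflat : Flat lam.left) (hsurj : Surjective lam.left)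
    {B' : Over (Spec (CommRingCat.of K))} [GrpObj B'] [IsCommMonObj B'] (b : B'.left ⟶ B.left)
    (hb : IsPullback b B'.hom B.hom ξ) (lam' : Red.bc ξ A ⟶ B') [IsMonHom lam'] (hfin' : IsFinite lam'.left)
    (hflat' : Flat lam'.left) (hsurj' : Surjective lam'.left) (hlam : lam'.left ≫ b = pr ξ A ≫ lam.left)
    {M' : B'.left.Modules} (D' : Dat B' g M') (a' : 𝟙_ (Over (Spec (CommRingCat.of K))) ⟶ Red.bc ξ A) (n : ℕ)
    (hn : 1 ≤ n) (ha' : a' ^ n = 1)
    (hiso : PicGrp.pull lam'.left (PicGrp.mk M' D'.inv) * PicGrp.pull (Red.bc ξ A).hom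
      (PicGrp.pull a'.left (PicGrp.pull (pr ξ A) (PicGrp.mk L hL))) =
        PicGrp.pull (tr a').left (PicGrp.pull (pr ξ A) (PicGrp.mk L hL))) : HasPrinc A g L := by
  have iA1 := hA.smooth
  have iA2 := hA.proper
  have iA3 := K451.Prod.geometricallyIntegral_of_isAbSch hA
  have iB1 := hB.smooth
  have iB2 := hB.proper
  have iB3 := K451.Prod.geometricallyIntegral_of_isAbSch hB
  obtain ⟨c, hc⟩ := K424.PicGen.exists_pull_eq hreg ξ hξ B.hom b B'.hom hb (PicGrp.mk M' D'.inv)
  let eB : V ⟶ B.left := (η[B] : 𝟙_ (Over V) ⟶ B).left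
  have heB : eB ≫ B.hom = 𝟙 V := Over.w (η[B] : 𝟙_ (Over V) ⟶ B)
  let eA : V ⟶ A.left := (η[A] : 𝟙_ (Over V) ⟶ A).left
  have heA : eA ≫ A.hom = 𝟙 V := Over.w (η[A] : 𝟙_ (Over V) ⟶ A)
  obtain ⟨M, hM, hMc⟩ := PicGrp.exists_mk (c * (PicGrp.pull B.hom (PicGrp.pull eB c))⁻¹)
  have h1 : PicGrp.pull b (PicGrp.mk M hM) = PicGrp.mk M' D'.inv := by
    rw [← hMc, map_mul, map_inv, hc, ← PicGrp.pull_comp b, hb.w, PicGrp.pull_comp B'.hom,
      pull_spec ξ, map_one, inv_one, _root_.mul_one]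
  have h2 : PicGrp.pull eB (PicGrp.mk M hM) = 1 := by
    rw [← hMc, map_mul, map_inv, ← PicGrp.pull_comp eB, heB, PicGrp.pull_id, mul_inv_cancel]
  -- symmetry
  have hep : Epi lam'.left := Flat.epi_of_flat_of_surjective lam'.left
  have hneg : (𝟙 B' ^ (-1 : ℤ)).left ≫ b = b ≫ (𝟙 B ^ (-1 : ℤ)).left := by
    rw [← cancel_epi lam'.left, ← Category.assoc, ← Over.comp_left, comp_neg, Over.comp_left, Category.assoc,
      hlam, ← Category.assoc lam'.left b, hlam, Category.assoc, ← Over.comp_left, comp_neg, Over.comp_left,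
      ← Category.assoc, ← Category.assoc, zpow_pr]
  have hsymM : PicGrp.pull (𝟙 B ^ (-1 : ℤ)).left (PicGrp.mk M hM) = PicGrp.mk M hM := by
    refine K258.Gen.eq_of hξ B.hom b B'.hom hb eB heB _ _ ?_ ?_
    · rw [← PicGrp.pull_comp, ← hneg, PicGrp.pull_comp, h1, PicGrp.pull_mk]
      exact (PicGrp.mk_eq_iff _ _).mpr D'.sym
    · rw [← PicGrp.pull_comp]
      congr 1
      have h3 : (η[B] : 𝟙_ (Over V) ⟶ B).left ≫ (𝟙 B ^ (-1 : ℤ)).left = (η[B] : 𝟙_ (Over V) ⟶ B).left := by
        rw [← Over.comp_left, unit_neg]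
      rw [h3]
  -- the section
  obtain ⟨a, ha, haξ⟩ := Groth.Agent.Variety.K431.SecExt.exists_section_extend hV ξ hξ A hA n hn a' ha'
  have htr := tr_pr ξ A a a' haξ
  -- the isomorphism
  have hmain : PicGrp.pull lam.left (PicGrp.mk M hM) * PicGrp.pull A.hom (PicGrp.pull a.left (PicGrp.mk L hL)) =
      PicGrp.pull (tr a).left (PicGrp.mk L hL) := by
    refine K258.Gen.eq_of hξ A.hom (pr ξ A) (Red.bc ξ A).hom (K258.AbBC.isPullback ξ A) eA heA _ _ ?_ ?_
    · rw [map_mul, ← PicGrp.pull_comp (pr ξ A) lam.left, ← hlam, PicGrp.pull_comp, h1,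
        ← PicGrp.pull_comp (pr ξ A) (tr a).left, ← htr, PicGrp.pull_comp, ← hiso]
      congr 1
      rw [← PicGrp.pull_comp (pr ξ A) A.hom, (K258.AbBC.isPullback ξ A).w, PicGrp.pull_comp, pull_spec ξ,
        pull_spec a'.left]
    · have h3 : eA ≫ lam.left = eB := by
        change (η[A] : 𝟙_ (Over V) ⟶ A).left ≫ lam.left = (η[B] : 𝟙_ (Over V) ⟶ B).left
        rw [← Over.comp_left, IsMonHom.one_hom]
      have h4 : eA ≫ (tr a).left = a.left := by
        change (η[A] : 𝟙_ (Over V) ⟶ A).left ≫ (tr a).left = a.left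
        rw [← Over.comp_left, unit_tr]
      rw [map_mul, ← PicGrp.pull_comp eA lam.left, h3, h2, _root_.one_mul, ← PicGrp.pull_comp eA A.hom, heA,
        PicGrp.pull_id, ← PicGrp.pull_comp eA, h4]
  -- ampleness
  have hampM : RelAmple.IsRelAmple B.hom M := by
    have hfB : LocallyOfFiniteType B.hom := inferInstance
    rw [Groth.Agent.S4470.result B.hom lam.left M hM Set.univ ?_ (fun x hx => (hx trivial).elim), Over.w]
    · have h5 : RelAmple.IsRelAmple A.hom ((Scheme.Modules.pullback (tr a).left).obj L) := by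
        have htri : IsIso (tr a).left := isIso_tr_left a
        have := Groth.Agent.Ega2.H275.RelDesc.isRelAmple_pullback A.hom (tr a).left hamp
        rwa [Over.w] at this
      refine isRelAmple_twist A.hom (isInvertible_pullback (tr a).left hL) (isInvertible_pullback lam.left hM)
        (PicGrp.pull a.left (PicGrp.mk L hL))⁻¹ ?_ h5
      rw [← PicGrp.pull_mk lam.left hM, ← PicGrp.pull_mk (tr a).left hL, ← hmain, map_inv, mul_inv_cancel_right]
    · exact ⟨isClosed_univ, inferInstance⟩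
  -- invertibility of the direct image
  have hprM : PicF.IsInvertible ((Coh.push B.hom).obj M) := by
    refine K258.Gen.isInvertible_of_generic hξ (K258.PushBase.isFinLocFree_push hB hM hampM) ?_
    have := K258.PushBase.isIso_bc0 hB hM hampM ξ B'.hom b hb
    have e1 : (Scheme.Modules.pullback ξ).obj ((Coh.push B.hom).obj M) ≅
        (Coh.push B'.hom).obj ((Scheme.Modules.pullback b).obj M) :=
      asIso (CohBC.bc0 B.hom ξ B'.hom b hb.w M)
    rw [PicGrp.pull_mk, PicGrp.mk_eq_iff] at h1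
    exact inv_of_iso (e1 ≪≫ (Coh.push B'.hom).mapIso h1.some).symm D'.prin
  refine ⟨B, inferInstance, inferInstance, lam, M, a, n, inferInstance, hfin, hflat, hsurj,
    ⟨hB, hM, ?_, ?_, hampM, hprM⟩, hn, ha, (iso_iff lam hM hL a).mpr hmain⟩
  · refine (PicGrp.mk_eq_one_iff (isInvertible_pullback _ hM)).mp ?_
    rw [← PicGrp.pull_mk _ hM]
    exact h2
  · refine (PicGrp.mk_eq_iff (isInvertible_pullback _ hM) hM).mp ?_
    rw [← PicGrp.pull_mk _ hM]
    exact hsymM

end K258.Extend
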