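import Groth.Agent.AbSch.K258.ConvFrob
import Groth.Agent.Sga3B.AffHopf
import Groth.Agent.AbSch.K258.RelFrobHom
import Groth.Agent.Grpsch.AbBC
import Mathlib.RingTheory.Finiteness.ModuleFinitePresentation
import Mathlib.RingTheory.Flat.EquationalCriterion

/-!
# A finite flat commutative group scheme with trivial Frobenius is killed by `p`
-/

set_option autoImplicit false
universe u

open CategoryTheory MonoidalCategory CartesianMonoidalCategory MonObj GrpObj AlgebraicGeometry Limits Opposite
open Groth.Agent.Sga3B Groth.Agent.Sga3B.AffTest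
open scoped TensorProduct

namespace K258.FrobKer

section Affine

variable {R : Type u} [CommRing R] {A : Type u} [CommRing A] [HopfAlgebra R A]

/-- A Hopf algebra whose group of points is commutative is cocommutative. -/
theorem isCocomm_of_points
    (h : ∀ x y : WithConv (A →ₐ[R] A ⊗[R] A), x * y = y * x) : Coalgebra.IsCocomm R A where
  comm_comp_comul := by
    let i₁ : WithConv (A →ₐ[R] A ⊗[R] A) := WithConv.toConv Algebra.TensorProduct.includeLeft
    let i₂ : WithConv (A →ₐ[R] A ⊗[R] A) := WithConv.toConv Algebra.TensorProduct.includeRight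
    have h0 : ∀ z : A ⊗[R] A, Algebra.TensorProduct.lift (i₁.ofConv) (i₂.ofConv) (fun _ _ => .all _ _) z = z := by
      intro z
      induction z with
      | zero => rw [map_zero]
      | add a b ha hb => rw [map_add, ha, hb]
      | tmul a b =>
        rw [Algebra.TensorProduct.lift_tmul]
        change (a ⊗ₜ[R] (1 : A)) * ((1 : A) ⊗ₜ[R] b) = _
        rw [Algebra.TensorProduct.tmul_mul_tmul, _root_.mul_one, _root_.one_mul]
    have h1 : ∀ z : A ⊗[R] A, Algebra.TensorProduct.lift (i₂.ofConv) (i₁.ofConv) (fun _ _ => .all _ _) z =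
        TensorProduct.comm R A A z := by
      intro z
      induction z with
      | zero => rw [map_zero, map_zero]
      | add a b ha hb => rw [map_add, map_add, ha, hb]
      | tmul a b =>
        rw [Algebra.TensorProduct.lift_tmul]
        change ((1 : A) ⊗ₜ[R] a) * (b ⊗ₜ[R] (1 : A)) = _
        rw [Algebra.TensorProduct.tmul_mul_tmul, _root_.one_mul, _root_.mul_one]
        rfl
    ext a
    have h2 := congrArg (fun z : WithConv (A →ₐ[R] A ⊗[R] A) => z a) (h i₁ i₂)
    simp only [AlgHom.convMul_apply] at h2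
    change Algebra.TensorProduct.lift _ _ _ (Coalgebra.comul (R := R) a) =
      Algebra.TensorProduct.lift _ _ _ (Coalgebra.comul (R := R) a) at h2
    rw [h0, h1] at h2
    exact h2.symm

/-- The Frobenius of the scheme `K` is trivial, i.e. it factors through the unit section. -/
def FrobTriv {S : Scheme.{u}} (p : ℕ) [Fact p.Prime] [FrobSch.IsCharP S p] (K : Over S) [GrpObj K] : Prop :=
  haveI : FrobSch.IsCharP K.left p := FrobSch.IsCharP.of_hom K.hom p
  FrobSch.frob K.left p = K.hom ≫ FrobSch.frob S p ≫ (η[K] : 𝟙_ (Over S) ⟶ K).left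

theorem natCast_eq_zero (p : ℕ) [FrobSch.IsCharP (Spec (CommRingCat.of R)) p] : (p : R) = 0 := by
  have := congrArg (Scheme.ΓSpecIso (CommRingCat.of R)).hom.hom
    (FrobSch.IsCharP.natCast_eq_zero (X := Spec (CommRingCat.of R)) (p := p))
  rwa [map_natCast, map_zero] at this

theorem pow_eq_of_frobTriv (p : ℕ) [Fact p.Prime] [FrobSch.IsCharP (Spec (CommRingCat.of R)) p]
    (h : FrobTriv p (sp R A)) (b : A) : b ^ p = algebraMap R A (Coalgebra.counit b) ^ p := by
  have : FrobSch.IsCharP (Spec (CommRingCat.of A)) p := FrobSch.IsCharP.of_hom (sp R A).hom p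
  have h1 : FrobSch.frob (Spec (CommRingCat.of A)) p =
      Spec.map (CommRingCat.ofHom (algebraMap R A)) ≫ FrobSch.frob (Spec (CommRingCat.of R)) p ≫
        Spec.map (CommRingCat.ofHom (Bialgebra.counitAlgHom R A).toRingHom) := h
  have e : ∀ {B C : CommRingCat.{u}} (φ : B ⟶ C) (r : B),
      (Spec.map φ).appTop.hom ((Scheme.ΓSpecIso B).inv.hom r) = (Scheme.ΓSpecIso C).inv.hom (φ.hom r) := by
    intro B C φ r
    exact (ConcreteCategory.congr_hom (Scheme.ΓSpecIso_inv_naturality φ) r).symm
  have h2 := congrArg (fun q => q.appTop.hom ((Scheme.ΓSpecIso (CommRingCat.of A)).inv.hom b)) h1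
  simp only [Scheme.Hom.comp_appTop, CommRingCat.hom_comp, RingHom.comp_apply] at h2
  rw [e] at h2
  change ((Scheme.ΓSpecIso (CommRingCat.of A)).inv.hom b) ^ p =
    (Spec.map (CommRingCat.ofHom (algebraMap R A))).appTop.hom
      (((Scheme.ΓSpecIso (CommRingCat.of R)).inv.hom (Coalgebra.counit (R := R) b)) ^ p) at h2
  rw [← map_pow, ← map_pow, e] at h2
  have h3 := (Scheme.ΓSpecIso (CommRingCat.of A)).symm.commRingCatIsoToRingEquiv.injective h2
  rw [h3]
  exact map_pow (algebraMap R A) _ _

/-- A finite flat commutative group scheme over an affine base with trivial Frobenius is killed by `p`. -/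
theorem sp_pow (p : ℕ) [Fact p.Prime] [FrobSch.IsCharP (Spec (CommRingCat.of R)) p]
    [Module.Finite R A] [Module.Projective R A] [IsCommMonObj (sp R A)]
    (h : FrobTriv p (sp R A)) : (𝟙 (sp R A)) ^ p = 1 := by
  have hc : Coalgebra.IsCocomm R A := isCocomm_of_points fun x y => by
    apply (Spec.mapMulEquiv (R := R) (S := A) (T := A ⊗[R] A)).injective
    rw [map_mul, map_mul]
    exact mul_comm _ _
  have h1 : Spec.mapMulEquiv (R := R) (S := A) (T := A) (WithConv.toConv (AlgHom.id R A)) = 𝟙 (sp R A) := by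
    ext1
    exact Spec.map_id _
  have hA : (p : A) = 0 := by
    rw [← map_natCast (algebraMap R A) p, natCast_eq_zero (R := R) p, map_zero]
  rw [← h1, ← map_pow, K258.ConvFrob.pow_eq_one p hA _ (fun b => pow_eq_of_frobTriv p h b), map_one]

end Affine

section General

open Groth.Agent.Sga3B.BcPts Groth.Agent.Sga3B.KerGrp K258.RelFrobHom

variable {S S' : Scheme.{u}} (p : ℕ) [Fact p.Prime] [FrobSch.IsCharP S p] [FrobSch.IsCharP S' p]

theorem frobTriv_iff (K : Over S) [GrpObj K] : FrobTriv p K ↔ phi p K = 1 := by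
  have h : (1 : (Over.map (FrobSch.frob S p)).obj K ⟶ K).left =
      K.hom ≫ FrobSch.frob S p ≫ (η[K] : 𝟙_ (Over S) ⟶ K).left := by
    rw [Hom.one_def, Over.comp_left, ← Category.assoc]
    congr 1
  constructor
  · intro h1
    ext1
    rw [h]
    exact h1
  · intro h1
    have h2 := congrArg (fun q => q.left) h1
    exact h2.trans h

/-- A subgroup `i : K ⟶ G` with `i ≫ F = 1` has trivial Frobenius. -/
theorem frobTriv_of_mono {K G : Over S} [GrpObj K] [GrpObj G] (i : K ⟶ G) [Mono i] [IsMonHom i]
    (h : i ≫ F p G = 1) : FrobTriv p K := by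
  rw [frobTriv_iff, ← cancel_mono i, MonObj.one_comp]
  apply (bcEquiv (FrobSch.frob S p) K G).injective
  rw [← comp_F, h, bcEquiv_one]

theorem frobTriv_of_iso {K G : Over S} [GrpObj K] [GrpObj G] (i : K ≅ G) [IsMonHom i.hom]
    (h : FrobTriv p G) : FrobTriv p K := by
  rw [frobTriv_iff] at h ⊢
  rw [← cancel_mono i.hom, ← phi_nat, h, MonObj.one_comp, MonObj.comp_one]

theorem frobTriv_bc (j : S' ⟶ S) {K : Over S} [GrpObj K] (h : FrobTriv p K) : FrobTriv p (Red.bc j K) := by
  have : FrobSch.IsCharP K.left p := FrobSch.IsCharP.of_hom K.hom p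
  have : FrobSch.IsCharP (Red.bc j K).left p := FrobSch.IsCharP.of_hom (Red.bc j K).hom p
  change FrobSch.frob K.left p = K.hom ≫ FrobSch.frob S p ≫ (η[K] : 𝟙_ (Over S) ⟶ K).left at h
  change FrobSch.frob (Red.bc j K).left p = (Red.bc j K).hom ≫ FrobSch.frob S' p ≫
    (η[Red.bc j K] : 𝟙_ (Over S') ⟶ Red.bc j K).left
  have e1 : (Red.bc j K).hom = pullback.snd K.hom j := rfl
  apply pullback.hom_ext
  · have h1 : FrobSch.frob (Red.bc j K).left p ≫ pullback.fst K.hom j =
        pullback.fst K.hom j ≫ FrobSch.frob K.left p := FrobSch.frob_comp p _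
    rw [h1, h, Category.assoc, Category.assoc, unit_bc_fst, pullback.condition_assoc, e1,
      ← FrobSch.frob_comp_assoc]
  · have h1 : FrobSch.frob (Red.bc j K).left p ≫ pullback.snd K.hom j =
        pullback.snd K.hom j ≫ FrobSch.frob S' p := FrobSch.frob_comp p _
    have h2 : (η[Red.bc j K] : 𝟙_ (Over S') ⟶ Red.bc j K).left ≫ pullback.snd K.hom j = 𝟙 S' :=
      Over.w (η[Red.bc j K] : 𝟙_ (Over S') ⟶ Red.bc j K)
    rw [h1, Category.assoc, Category.assoc, h2, Category.comp_id, e1]

theorem one_pow_of_iso {K G : Over S} [GrpObj K] [GrpObj G] (i : K ≅ G) [IsMonHom i.hom] (n : ℕ)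
    (h : (𝟙 K) ^ n = 1) : (𝟙 G) ^ n = 1 := by
  rw [← cancel_epi i.hom, MonObj.comp_pow, Category.comp_id, MonObj.comp_one]
  have h1 : ((𝟙 K) ^ n) ≫ i.hom = i.hom ^ n := by rw [MonObj.pow_comp, Category.id_comp]
  rw [← h1, h, MonObj.one_comp]

/-- The affine case. -/
theorem pow_affine {R : Type u} [CommRing R] [FrobSch.IsCharP (Spec (CommRingCat.of R)) p]
    (K : Over (Spec (CommRingCat.of R))) [GrpObj K] [IsCommMonObj K] [IsFinite K.hom] [Flat K.hom]
    [LocallyOfFinitePresentation K.hom] (h : FrobTriv p K) : (𝟙 K) ^ p = 1 := by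
  have : IsAffine K.left := isAffine_of_isAffineHom K.hom
  obtain ⟨C, _, _, i, hi⟩ := AffHopf.exists_hopf K
  have hw : (sp R C).hom = i.hom.left ≫ K.hom := (Over.w i.hom).symm
  have hiso : IsIso i.hom.left := ((Over.forget _).mapIso i).isIso_hom
  have h1 : IsFinite (Spec.map (CommRingCat.ofHom (algebraMap R C))) := by
    change IsFinite (sp R C).hom
    rw [hw]; exact MorphismProperty.comp_mem _ _ _ inferInstance inferInstance
  have h2 : Flat (Spec.map (CommRingCat.ofHom (algebraMap R C))) := by
    change Flat (sp R C).hom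
    rw [hw]; exact MorphismProperty.comp_mem _ _ _ inferInstance inferInstance
  have h3 : LocallyOfFinitePresentation (Spec.map (CommRingCat.ofHom (algebraMap R C))) := by
    change LocallyOfFinitePresentation (sp R C).hom
    rw [hw]; exact MorphismProperty.comp_mem _ _ _ inferInstance inferInstance
  rw [IsFinite.SpecMap_iff] at h1
  rw [Flat.SpecMap_iff] at h2
  rw [LocallyOfFinitePresentation.SpecMap_iff] at h3
  have h1' : Module.Finite R C := RingHom.finite_algebraMap.mp h1
  have h2' : Module.Flat R C := RingHom.flat_algebraMap_iff.mp h2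
  have h3' : Algebra.FinitePresentation R C := RingHom.finitePresentation_algebraMap.mp h3
  have h4 : Module.FinitePresentation R C := Module.FinitePresentation.of_finite_of_finitePresentation R C
  have h5 : Module.Projective R C := Module.Flat.projective_of_finitePresentation
  have h6 : IsCommMonObj (sp R C) := by
    constructor
    rw [← cancel_mono i.hom]
    rw [Category.assoc, IsMonHom.mul_hom, ← BraidedCategory.braiding_naturality_assoc, IsCommMonObj.mul_comm]
  exact one_pow_of_iso i p (sp_pow p (frobTriv_of_iso p i h))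

theorem pow_bc (R : CommRingCat.{u}) (j : Spec R ⟶ S) (K : Over S) [GrpObj K] [IsCommMonObj K] [IsFinite K.hom]
    [Flat K.hom] [LocallyOfFinitePresentation K.hom] (h : FrobTriv p K) : (𝟙 (Red.bc j K)) ^ p = 1 := by
  have hc : FrobSch.IsCharP (Spec R) p := FrobSch.IsCharP.of_hom j p
  have h1 : IsFinite (Red.bc j K).hom := inferInstanceAs (IsFinite (pullback.snd K.hom j))
  have h2 : Flat (Red.bc j K).hom := inferInstanceAs (Flat (pullback.snd K.hom j))
  have h3 : LocallyOfFinitePresentation (Red.bc j K).hom :=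
    inferInstanceAs (LocallyOfFinitePresentation (pullback.snd K.hom j))
  have h4 : IsCommMonObj (Red.bc j K) := inferInstance
  exact @pow_affine p _ R _ hc (Red.bc j K) _ h4 h1 h2 h3 (frobTriv_bc p j h)

/-- A finite flat finitely presented commutative group scheme with trivial Frobenius is killed by `p`. -/
theorem one_pow_of_frobTriv (K : Over S) [GrpObj K] [IsCommMonObj K] [IsFinite K.hom] [Flat K.hom]
    [LocallyOfFinitePresentation K.hom] (h : FrobTriv p K) : (𝟙 K) ^ p = 1 := by
  have key : ∀ i, (Over.pullback (S.affineCover.f i)).map ((𝟙 K) ^ p) =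
      (Over.pullback (S.affineCover.f i)).map 1 := by
    intro i
    have h1 := Groth.Agent.Grpsch.AbBC.map_zpow_one (S.affineCover.f i) K (p : ℤ)
    rw [zpow_natCast, zpow_natCast] at h1
    rw [h1, Functor.map_one]
    exact pow_bc p _ (S.affineCover.f i) K h
  ext1
  apply Scheme.Cover.hom_ext (S.affineCover.pullback₁ K.hom)
  intro i
  have h2 := congrArg (fun q => q.left ≫ pullback.fst K.hom (S.affineCover.f i)) (key i)
  have e : ∀ q : K ⟶ K, ((Over.pullback (S.affineCover.f i)).map q).left ≫ pullback.fst K.hom (S.affineCover.f i) =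
      pullback.fst K.hom (S.affineCover.f i) ≫ q.left := fun q => pullback.lift_fst _ _ _
  simp only [e] at h2
  exact h2

/-- The kernel of the relative Frobenius is killed by `p`. -/
theorem pow_eq_one_of_comp_F (G : Over S) [GrpObj G] [IsCommMonObj G] [IsFinite (F p G).left] [Flat (F p G).left]
    [LocallyOfFinitePresentation (F p G).left] {T : Over S} (x : T ⟶ G) (hx : x ≫ F p G = 1) : x ^ p = 1 := by
  obtain ⟨hG, hmon⟩ := exists_grpObj (F p G)
  have hc : IsCommMonObj (kerObj (F p G)) := by
    rw [isCommMonObj_iff_isMulCommutative]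
    intro T
    refine ⟨⟨fun a b => ?_⟩⟩
    rw [← cancel_mono (kerι (F p G)), MonObj.mul_comp, MonObj.mul_comp]
    exact mul_comm _ _
  have h1 : IsFinite (kerObj (F p G)).hom :=
    inferInstanceAs (IsFinite (pullback.snd (F p G).left (η[Red.bc (FrobSch.frob S p) G] : 𝟙_ (Over S) ⟶ _).left))
  have h2 : Flat (kerObj (F p G)).hom :=
    inferInstanceAs (Flat (pullback.snd (F p G).left (η[Red.bc (FrobSch.frob S p) G] : 𝟙_ (Over S) ⟶ _).left))
  have h3 : LocallyOfFinitePresentation (kerObj (F p G)).hom :=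
    inferInstanceAs (LocallyOfFinitePresentation
      (pullback.snd (F p G).left (η[Red.bc (FrobSch.frob S p) G] : 𝟙_ (Over S) ⟶ _).left))
  have h4 := one_pow_of_frobTriv p (kerObj (F p G)) (frobTriv_of_mono p (kerι (F p G)) (kerι_comp (F p G)))
  obtain ⟨t, rfl⟩ := exists_lift (F p G) x hx
  have h5 : t ^ p = 1 := by
    rw [← Category.comp_id t, ← MonObj.comp_pow, h4, MonObj.comp_one]
  rw [← MonObj.pow_comp, h5, MonObj.one_comp]

end General

end K258.FrobKer
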