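import Groth.Agent.AbSch.K258.KeyDat
import Groth.Agent.AbSch.K258.FrobKer
import Groth.Agent.PerfSch.K818.FrobPow
import Groth.Agent.FrobSch.K865.RelFrobFlat
import Groth.Agent.S14930
import Groth.Agent.S14931

/-!
# The square of the relative Frobenius of an abelian scheme
-/

set_option autoImplicit false
universe u

open CategoryTheory MonoidalCategory CartesianMonoidalCategory MonObj GrpObj AlgebraicGeometry Limits Opposite
open Groth.Agent Groth.Agent.Grpsch Groth.Agent.Fdesc.LocGen K258.RelFrobHom K258.KeyDat

namespace K258.FrobStep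

/-- The Frobenius acts on the Picard group by the `p`-th power. -/
theorem pull_frob (p : ℕ) [Fact p.Prime] {X : Scheme.{u}} [FrobSch.IsCharP X p] (c : PicGrp.Pic X) :
    PicGrp.pull (FrobSch.frob X p) c = c ^ p := by
  induction c using PicGrp.ind with
  | h L hL =>
    rw [PicGrp.pull_mk, ← PicGrp.mk_tensorPow hL]
    exact (PicGrp.mk_eq_iff _ _).mpr (K818.FrobPow.nonempty_pullback_frob_iso hL)

variable {S : Scheme.{u}} (p : ℕ) [Fact p.Prime] [FrobSch.IsCharP S p] (A : Over S) [GrpObj A] {g : ℕ}

omit [GrpObj A] in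
theorem flat_F [Smooth A.hom] : Flat (F p A).left := by
  rw [F_left]
  exact K865.RelFrobFlat.flat_relFrob A.hom

omit [GrpObj A] in
theorem isFinite_F [LocallyOfFiniteType A.hom] : IsFinite (F p A).left := by
  rw [F_left]
  exact Groth.Agent.S14931.result p A.hom

omit [GrpObj A] in
theorem surjective_F : Surjective (F p A).left := by
  rw [F_left]
  have h := (Groth.Agent.S14930.result p A.hom).1
  have h1 := MorphismProperty.universally_le _ _ h
  exact ⟨h1.surjective⟩

omit [GrpObj A] in
theorem lfp_F [LocallyOfFinitePresentation A.hom] : LocallyOfFinitePresentation (F p A).left := by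
  have h1 : (F p A).left ≫ (Red.bc (FrobSch.frob S p) A).hom = A.hom := Over.w _
  have h2 : LocallyOfFiniteType (Red.bc (FrobSch.frob S p) A).hom :=
    inferInstanceAs (LocallyOfFiniteType (pullback.snd A.hom _))
  have h3 : LocallyOfFinitePresentation ((F p A).left ≫ (Red.bc (FrobSch.frob S p) A).hom) := by
    rw [h1]
    infer_instance
  exact MorphismProperty.of_postcomp (W := @LocallyOfFinitePresentation) (W' := @LocallyOfFiniteType) _
    (Red.bc (FrobSch.frob S p) A).hom h2 h3

/-- The twist. -/
noncomputable abbrev A1 : Over S := Red.bc (FrobSch.frob S p) A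

/-- The second twist. -/
noncomputable abbrev A2 : Over S := Red.bc (FrobSch.frob S p) (A1 p A)

/-- The square of the relative Frobenius. -/
noncomputable abbrev FF : A ⟶ A2 p A := F p A ≫ F p (A1 p A)

omit [GrpObj A] in
theorem pull_F (c : PicGrp.Pic A.left) :
    PicGrp.pull (F p A).left (PicGrp.pull (K258.AbBC.pr (FrobSch.frob S p) A) c) = c ^ p := by
  have : FrobSch.IsCharP A.left p := FrobSch.IsCharP.of_hom A.hom p
  rw [← PicGrp.pull_comp, F_fst, pull_frob]

omit [GrpObj A] in
theorem pull_FF (c : PicGrp.Pic A.left) :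
    PicGrp.pull (FF p A).left (PicGrp.pull (K258.AbBC.pr (FrobSch.frob S p) (A1 p A))
      (PicGrp.pull (K258.AbBC.pr (FrobSch.frob S p) A) c)) = c ^ (p ^ 2) := by
  rw [Over.comp_left, PicGrp.pull_comp, pull_F, map_pow, pull_F, ← pow_mul, sq]

omit [GrpObj A] in
theorem isFinite_FF [LocallyOfFiniteType A.hom] : IsFinite (FF p A).left := by
  have : LocallyOfFiniteType (A1 p A).hom := inferInstanceAs (LocallyOfFiniteType (pullback.snd A.hom _))
  have := isFinite_F p A
  have := isFinite_F p (A1 p A)
  rw [Over.comp_left]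
  infer_instance

omit [GrpObj A] in
theorem flat_FF [Smooth A.hom] : Flat (FF p A).left := by
  have : Smooth (A1 p A).hom := inferInstanceAs (Smooth (pullback.snd A.hom _))
  have := flat_F p A
  have := flat_F p (A1 p A)
  rw [Over.comp_left]
  infer_instance

omit [GrpObj A] in
theorem surjective_FF : Surjective (FF p A).left := by
  have := surjective_F p A
  have := surjective_F p (A1 p A)
  rw [Over.comp_left]
  infer_instance

theorem ker_FF [IsCommMonObj A] [Smooth A.hom] {T : Over S} (x : T ⟶ A) (hx : x ≫ FF p A = 1) :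
    x ^ (p ^ 2) = 1 := by
  have : Smooth (A1 p A).hom := inferInstanceAs (Smooth (pullback.snd A.hom _))
  have := flat_F p A
  have := flat_F p (A1 p A)
  have := lfp_F p A
  have := lfp_F p (A1 p A)
  have := isFinite_F p A
  have := isFinite_F p (A1 p A)
  have hc : IsCommMonObj (A1 p A) := inferInstance
  have h1 : (x ≫ F p A) ≫ F p (A1 p A) = 1 := by
    rw [Category.assoc]
    exact hx
  have h2 := K258.FrobKer.pow_eq_one_of_comp_F p (A1 p A) (x ≫ F p A) h1
  rw [← MonObj.pow_comp] at h2
  have h3 := K258.FrobKer.pow_eq_one_of_comp_F p A (x ^ p) h2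
  rw [sq, pow_mul, h3]

end K258.FrobStep
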