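import Groth.Agent.AbSch.K258.PlanKey
import Mathlib.AlgebraicGeometry.FunctionField
import Mathlib.AlgebraicGeometry.Stalk

/-!
# Generic points with values in a field
-/

set_option autoImplicit false
universe u

open CategoryTheory AlgebraicGeometry K258.PlanKey

namespace K258.GenPtLem

variable {S : Scheme.{u}} [IsIntegral S] {K : Type u} [Field K]

theorem apply {ξ : Spec (CommRingCat.of K) ⟶ S} (hξ : IsGenPt ξ) (p : Spec (CommRingCat.of K)) :
    ξ p = genericPoint S := by
  obtain ⟨e, rfl⟩ := hξ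
  rw [Scheme.Hom.comp_apply]
  have h1 : Spec.map (CommRingCat.ofHom e.toRingHom) p = IsLocalRing.closedPoint S.functionField :=
    Subsingleton.elim _ _
  rw [h1]
  exact Scheme.fromSpecStalk_closedPoint

/-- Characterisation of generic points. -/
theorem isGenPt_iff (ξ : Spec (CommRingCat.of K) ⟶ S) : IsGenPt ξ ↔
    ξ (IsLocalRing.closedPoint K) = genericPoint S ∧ Function.Bijective (Scheme.stalkClosedPointTo ξ).hom := by
  have key1 : ∀ (x : S) (_ : x = genericPoint S) (φ : S.presheaf.stalk x ⟶ CommRingCat.of K),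
      Function.Bijective φ.hom → ∃ e : S.functionField ≃+* K,
        Spec.map φ ≫ S.fromSpecStalk x = Spec.map (CommRingCat.ofHom e.toRingHom) ≫ S.fromSpecStalk (genericPoint S) := by
    rintro _ rfl φ hφ
    exact ⟨RingEquiv.ofBijective φ.hom hφ, rfl⟩
  have key2 : ∀ (e : S.functionField ≃+* K) (x : S) (_ : x = genericPoint S)
      (φ : S.presheaf.stalk x ⟶ CommRingCat.of K),
      Spec.map φ ≫ S.fromSpecStalk x = Spec.map (CommRingCat.ofHom e.toRingHom) ≫ S.fromSpecStalk (genericPoint S) →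
      Function.Bijective φ.hom := by
    rintro e _ rfl φ hφ
    rw [cancel_mono] at hφ
    have h1 := Spec.map_injective hφ
    rw [h1]
    exact e.bijective
  constructor
  · rintro ⟨e, he⟩
    have h1 : ξ (IsLocalRing.closedPoint K) = genericPoint S := apply ⟨e, he⟩ _
    refine ⟨h1, key2 e _ h1 _ ?_⟩
    exact (Scheme.Spec_stalkClosedPointTo_fromSpecStalk ξ).trans he
  · rintro ⟨h1, h2⟩
    obtain ⟨e, he⟩ := key1 _ h1 _ h2
    exact ⟨e, (Scheme.Spec_stalkClosedPointTo_fromSpecStalk ξ).symm.trans he⟩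

/-- Generic points of open subschemes. -/
theorem of_comp {V : Scheme.{u}} [IsIntegral V] (j : V ⟶ S) [IsOpenImmersion j] (ξ : Spec (CommRingCat.of K) ⟶ V)
    (h : IsGenPt (ξ ≫ j)) : IsGenPt ξ := by
  rw [isGenPt_iff] at h ⊢
  obtain ⟨h1, h2⟩ := h
  rw [Scheme.stalkClosedPointTo_comp] at h2
  refine ⟨j.injective ?_, ?_⟩
  · rw [genericPoint_eq_of_isOpenImmersion]
    exact h1
  · have h3 : Function.Bijective (j.stalkMap (ξ (IsLocalRing.closedPoint K))).hom :=
      ConcreteCategory.bijective_of_isIso (j.stalkMap (ξ (IsLocalRing.closedPoint K)))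
    have h4 : Function.Bijective ((Scheme.stalkClosedPointTo ξ).hom ∘ (j.stalkMap (ξ (IsLocalRing.closedPoint K))).hom) := h2
    exact (Function.Bijective.of_comp_iff _ h3).mp h4

omit [IsIntegral S] in
/-- The generic point lifts to an open subscheme containing the generic point. -/
theorem exists_lift (ξ : Spec (CommRingCat.of K) ⟶ S) (U : S.Opens)
    (hU : ξ (IsLocalRing.closedPoint K) ∈ U) : ∃ ξ' : Spec (CommRingCat.of K) ⟶ U, ξ' ≫ U.ι = ξ := by
  refine ⟨IsOpenImmersion.lift U.ι ξ ?_, IsOpenImmersion.lift_fac _ _ _⟩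
  rintro _ ⟨x, rfl⟩
  rw [Scheme.Opens.range_ι]
  have : x = IsLocalRing.closedPoint K := Subsingleton.elim (α := PrimeSpectrum K) _ _
  rw [this]
  exact hU

end K258.GenPtLem
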