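import Groth.Agent.AbSch.K258.RankFib
import Groth.Agent.AbSch.K258.GenPtLem
import Groth.Agent.AbSch.K451.DetPic
import Groth.Agent.AbVar.K521.SeesawRed
import Groth.Agent.Grpsch.PicGrp

/-!
# Classes trivial on the generic fibre, and ranks at the generic point
-/

set_option autoImplicit false
universe u

open CategoryTheory MonoidalCategory CartesianMonoidalCategory MonObj GrpObj AlgebraicGeometry Limits Opposite
open Groth.Agent Groth.Agent.Grpsch K258.PlanKey

namespace K258.Gen

variable {V : Scheme.{u}} [IsIntegral V] {K : Type u} [Field K] {ξ : Spec (CommRingCat.of K) ⟶ V}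

/-- The residue field of the generic point maps to `K`. -/
theorem exists_residue (hξ : IsGenPt ξ) : ∃ u : Spec (V.residueField (genericPoint V)) ⟶ Spec (CommRingCat.of K),
    u ≫ ξ = V.fromSpecResidueField (genericPoint V) := by
  obtain ⟨e, rfl⟩ := hξ
  refine ⟨Spec.map (CommRingCat.ofHom e.symm.toRingHom ≫ V.residue (genericPoint V)), ?_⟩
  rw [← Category.assoc, ← Spec.map_comp]
  have : CommRingCat.ofHom e.toRingHom ≫ CommRingCat.ofHom e.symm.toRingHom ≫ V.residue (genericPoint V) =
      V.residue (genericPoint V) := by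
    rw [← Category.assoc, ← CommRingCat.ofHom_comp]
    have : e.symm.toRingHom.comp e.toRingHom = RingHom.id _ := by
      ext x
      exact e.symm_apply_apply x
    rw [this]
    exact Category.id_comp _
  rw [this]
  rfl

theorem apply_eq (hξ : IsGenPt ξ) (x : Spec (CommRingCat.of K)) : ξ x = genericPoint V :=
  K258.GenPtLem.apply hξ x

/-- A class trivial on the generic fibre comes from the base. -/
theorem exists_pull (hξ : IsGenPt ξ) {B B' : Scheme.{u}} (h : B ⟶ V) [Flat h] [IsProper h]
    [LocallyOfFinitePresentation h] [GeometricallyIntegral h] (b : B' ⟶ B) (h' : B' ⟶ Spec (CommRingCat.of K))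
    (hb : IsPullback b h' h ξ) (c : PicGrp.Pic B) (hc : PicGrp.pull b c = 1) :
    ∃ d : PicGrp.Pic V, PicGrp.pull h d = c := by
  refine K521.SeesawRed.exists_pull h c {genericPoint V} ?_ ?_
  · rw [dense_iff_closure_eq]
    exact genericPoint_closure V
  · rintro s rfl
    obtain ⟨u, hu⟩ := exists_residue hξ
    have h1 : h.fiberι (genericPoint V) ≫ h = (h.fiberToSpecResidueField (genericPoint V) ≫ u) ≫ ξ := by
      rw [Category.assoc, hu]
      exact h.fiber_fac _
    rw [← hb.lift_fst _ _ h1, PicGrp.pull_comp, hc, map_one]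

/-- A class trivial on the generic fibre and along a section is trivial. -/
theorem eq_one (hξ : IsGenPt ξ) {B B' : Scheme.{u}} (h : B ⟶ V) [Flat h] [IsProper h]
    [LocallyOfFinitePresentation h] [GeometricallyIntegral h] (b : B' ⟶ B) (h' : B' ⟶ Spec (CommRingCat.of K))
    (hb : IsPullback b h' h ξ) (e : V ⟶ B) (he : e ≫ h = 𝟙 V) (c : PicGrp.Pic B) (hc : PicGrp.pull b c = 1)
    (hc' : PicGrp.pull e c = 1) : c = 1 := by
  obtain ⟨d, rfl⟩ := exists_pull hξ h b h' hb c hc
  rw [← PicGrp.pull_comp, he, PicGrp.pull_id] at hc'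
  rw [hc', map_one]

/-- Two rigidified classes agreeing on the generic fibre agree. -/
theorem eq_of (hξ : IsGenPt ξ) {B B' : Scheme.{u}} (h : B ⟶ V) [Flat h] [IsProper h]
    [LocallyOfFinitePresentation h] [GeometricallyIntegral h] (b : B' ⟶ B) (h' : B' ⟶ Spec (CommRingCat.of K))
    (hb : IsPullback b h' h ξ) (e : V ⟶ B) (he : e ≫ h = 𝟙 V) (c c' : PicGrp.Pic B)
    (hc : PicGrp.pull b c = PicGrp.pull b c') (hc' : PicGrp.pull e c = PicGrp.pull e c') : c = c' := by
  rw [← mul_inv_eq_one]
  exact eq_one hξ h b h' hb e he _ (by rw [map_mul, map_inv, hc, mul_inv_cancel])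
    (by rw [map_mul, map_inv, hc', mul_inv_cancel])

/-- A finite locally free module of rank one at the generic point is invertible. -/
theorem isInvertible_of_generic (hξ : IsGenPt ξ) {E : V.Modules} (hE : FlatMod.IsFinLocFree E)
    (h : PicF.IsInvertible ((Scheme.Modules.pullback ξ).obj E)) : PicF.IsInvertible E := by
  rw [← K451.DetPic.rank_one_iff]
  intro s
  obtain ⟨U, n, hs, e⟩ := hE s
  obtain ⟨b, hb⟩ := Groth.Agent.Sga67.LocBasis.nonempty_restrict_iso_iff.mp e
  have hη : genericPoint V ∈ U := (genericPoint_spec V).mem_open_set_iff U.2 |>.mpr ⟨s, trivial, hs⟩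
  have hU : ⊤ ≤ ξ ⁻¹ᵁ U := by
    intro x _
    change ξ x ∈ U
    rwa [apply_eq hξ]
  have : Nontrivial (CommRingCat.of K) := inferInstanceAs (Nontrivial K)
  have h1 := K258.RankFib.finrank_pullback ξ hb hU
  have h2 : Nonempty ((Scheme.Modules.pullback ξ).obj E ≅ Coh.structureModule (Spec (CommRingCat.of K))) :=
    (PicGrp.mk_eq_one_iff h).mp (PicGrp.pic_spec_local K _)
  obtain ⟨i⟩ := h2
  have h3 := (K258.RankFib.secEquiv i ⊤).finrank_eq
  have : Nontrivial Γ(Spec (CommRingCat.of K), ⊤) :=
    (Scheme.ΓSpecIso (CommRingCat.of K)).symm.commRingCatIsoToRingEquiv.toEquiv.symm.nontrivial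
  have h4 : Module.finrank Γ(Spec (CommRingCat.of K), ⊤)
      (Groth.Agent.Sga67.Sec.Sec (Coh.structureModule (Spec (CommRingCat.of K))) ⊤) = 1 :=
    Module.finrank_self _
  have h5 : n = 1 := by rw [← h1, h3, h4]
  subst h5
  exact ⟨U, hs, e⟩

end K258.Gen
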