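import Groth.Agent.AbSch.K258.KeyDat
import Groth.Agent.S14674
import Groth.Agent.S7788

/-!
# Multiplication by an integer on a symmetric rigidified module
-/

set_option autoImplicit false
universe u

open CategoryTheory MonoidalCategory CartesianMonoidalCategory MonObj GrpObj AlgebraicGeometry Limits Opposite
open Groth.Agent Groth.Agent.Grpsch Groth.Agent.Fdesc.LocGen K258.KeyDat

namespace K258.MulStep

variable {S : Scheme.{u}} [IsLocallyNoetherian S] {A : Over S} [GrpObj A] {g : ℕ} {L : A.left.Modules}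

/-- `[n]^* L ≅ L^{n²}` for a symmetric rigidified module. -/
theorem nonempty_pow (hA : AgPol.IsAbSch A g) (hL : PicF.IsInvertible L)
    (hrig : Nonempty ((Scheme.Modules.pullback (η[A] : 𝟙_ (Over S) ⟶ A).left).obj L ≅ Coh.structureModule S))
    (hsym : Nonempty ((Scheme.Modules.pullback (𝟙 A ^ (-1 : ℤ)).left).obj L ≅ L)) (n : ℤ) :
    Nonempty ((Scheme.Modules.pullback (𝟙 A ^ n).left).obj L ≅ CohB1.tensorPow L (n.natAbs ^ 2)) := by
  have := hA.smooth
  have := hA.proper
  have := K451.Prod.geometricallyIntegral_of_isAbSch hA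
  have h1 := Groth.Agent.S14674.result A L hL n
  have hη := isInvertible_pullback (η[A] : 𝟙_ (Over S) ⟶ A).left hL
  have hn := isInvertible_pullback (𝟙 A ^ n).left hL
  have i1 := isInvertible_pullback A.hom (isInvertible_tensorPow hη (n.natAbs ^ 2))
  have i2 := isInvertible_tensorPow hL ((n ^ 2 + n) / 2).toNat
  have i3 := isInvertible_pullback (𝟙 A ^ (-1 : ℤ)).left (isInvertible_tensorPow hL ((n ^ 2 - n) / 2).toNat)
  have i4 := isInvertible_pullback A.hom hη
  have e1 : PicGrp.mk _ hη = 1 := (PicGrp.mk_eq_one_iff hη).mpr hrig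
  have e2 : PicGrp.pull (𝟙 A ^ (-1 : ℤ)).left (PicGrp.mk L hL) = PicGrp.mk L hL :=
    (PicGrp.mk_eq_iff (isInvertible_pullback _ hL) hL).mpr hsym
  have e3 : PicGrp.mk _ i3 = PicGrp.mk L hL ^ ((n ^ 2 - n) / 2).toNat := by
    refine (PicGrp.pull_mk (𝟙 A ^ (-1 : ℤ)).left (isInvertible_tensorPow hL _)).symm.trans ?_
    rw [PicGrp.mk_tensorPow hL, map_pow, e2]
  rw [← PicGrp.mk_eq_iff (isInvertible_tensorMod hn i1)
    (isInvertible_tensorMod (isInvertible_tensorMod i2 i3) i4), ← PicGrp.mk_mul_mk hn i1,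
    ← PicGrp.mk_mul_mk (isInvertible_tensorMod i2 i3) i4, ← PicGrp.mk_mul_mk i2 i3,
    PicGrp.mk_tensorPow hL, ← PicGrp.pull_mk A.hom (isInvertible_tensorPow hη (n.natAbs ^ 2)),
    ← PicGrp.pull_mk A.hom hη, PicGrp.mk_tensorPow hη, e1, one_pow, map_one, _root_.mul_one, _root_.mul_one,
    e3, ← pow_add, K451.PowCube.toNat_add_toNat, ← PicGrp.mk_tensorPow hL] at h1
  exact (PicGrp.mk_eq_iff _ _).mp h1

omit [IsLocallyNoetherian S] in
/-- Multiplication by a non-zero integer is finite, flat and surjective. -/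
theorem zpow_props (hA : AgPol.IsAbSch A g) (n : ℤ) (hn : n ≠ 0) :
    IsFinite (𝟙 A ^ n).left ∧ Flat (𝟙 A ^ n).left ∧ Surjective (𝟙 A ^ n).left := by
  have := hA.smooth
  have := hA.proper
  have := hA.geomConnected
  have := Groth.Agent.Flat2B.SmoothGeom.geometricallyReduced_of_smooth A.hom
  obtain ⟨h1, h2, h3, -⟩ := Groth.Agent.S7788.result A (fun _ => g) hA.fibreDim n hn
  exact ⟨h1, h2, h3⟩

end K258.MulStep
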