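import Groth.Agent.AbSch.K258.FrobStep
import Groth.Agent.AbSch.K258.MulStep
import Groth.Agent.Grpsch.MulFinFlat

/-!
# The key formula in characteristic `p`
-/

set_option autoImplicit false
universe u

open CategoryTheory MonoidalCategory CartesianMonoidalCategory MonObj GrpObj AlgebraicGeometry Limits Opposite
open Groth.Agent Groth.Agent.Grpsch Groth.Agent.Fdesc.LocGen K258.KeyDat K258.FrobStep K451.OmegaBox

namespace K258.KeyCharP

variable {S : Scheme.{u}} [IsLocallyNoetherian S] (p : ℕ) [Fact p.Prime] [FrobSch.IsCharP S p]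
  {A : Over S} [GrpObj A] [IsCommMonObj A] {g : ℕ} {L : A.left.Modules}

/-- The key class is killed by `(p² - 1) p^(2 g + 2)`. -/
theorem delta_pow (D : Dat A g L) : delta D ^ ((p ^ 2 - 1) * p ^ (2 * g + 2)) = 1 := by
  have hp : 1 ≤ p := (Fact.out : p.Prime).one_lt.le
  have hp0 : (p : ℤ) ≠ 0 := by exact_mod_cast (Fact.out : p.Prime).ne_zero
  have hsm := D.ab.smooth
  have hpr := D.ab.proper
  -- the direct image of `L^(p²)`
  have hr := K258.PushBase.rank_push_tensorPow D.ab D.inv D.amp (K451.DetPic.rank_one_iff.mpr D.prin) (p ^ 2)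
    (Nat.one_le_pow _ _ hp)
  have hd : (p ^ 2) ^ g * 1 = p ^ (2 * g) := by rw [_root_.mul_one, ← pow_mul]
  rw [hd] at hr
  -- multiplication by `p`
  obtain ⟨a1, a2, a3⟩ := K258.MulStep.zpow_props D.ab (p : ℤ) hp0
  have a4 := K258.MulStep.nonempty_pow D.ab D.inv D.rig D.sym (p : ℤ)
  rw [Int.natAbs_natCast] at a4
  have a5 : IsMonHom (𝟙 A ^ (p : ℤ)) := Groth.Agent.Grpsch.MulFinFlat.isMonHom_zpow (𝟙 A) _
  have f1 := formula D.ab (𝟙 A ^ (p : ℤ)) a1 a2 a3 p hp (fun T x hx => by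
    rw [GrpObj.comp_zpow, Category.comp_id, zpow_natCast] at hx
    exact hx) D _ a4 _ hr
  -- the square of the relative Frobenius
  let D1 := D.bc (FrobSch.frob S p)
  let D2 := D1.bc (FrobSch.frob S p)
  have b1 : delta D2 = delta D ^ (p ^ 2) := by
    rw [delta_bc D1, delta_bc D, pull_frob, pull_frob, ← pow_mul, sq]
  have b2 : Nonempty ((Scheme.Modules.pullback (FF p A).left).obj
      ((Scheme.Modules.pullback (K258.AbBC.pr (FrobSch.frob S p) (A1 p A))).obj
      ((Scheme.Modules.pullback (K258.AbBC.pr (FrobSch.frob S p) A)).obj L)) ≅ CohB1.tensorPow L (p ^ 2)) := by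
    have h1 := pull_FF p A (PicGrp.mk L D.inv)
    rw [← PicGrp.mk_tensorPow D.inv] at h1
    exact (PicGrp.mk_eq_iff _ _).mp h1
  have f2 := formula D.ab (FF p A) (isFinite_FF p A) (flat_FF p A) (surjective_FF p A) (p ^ 2)
    (Nat.one_le_pow _ _ hp) (fun T x hx => ker_FF p A x hx) D2 _ b2 _ hr
  rw [b1] at f2
  -- comparison
  set e := K451.DetPic.det (p ^ (2 * g)) _ hr ^ 2 *
    K451.DetPic.det g (om A) (isFinLocFreeOfRank_om D.ab) ^ p ^ (2 * g) with he
  have f3 : delta D ^ (p ^ 2 * (p ^ 2 * p ^ (2 * g))) = delta D ^ (p * (p * p ^ (2 * g))) := by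
    rw [pow_mul, ← f2, sq, pow_mul, f1, ← pow_mul]
    congr 1
    ring
  have h1 : p ^ 2 * (p ^ 2 * p ^ (2 * g)) = (p ^ 2 - 1) * p ^ (2 * g + 2) + p * (p * p ^ (2 * g)) := by
    obtain ⟨k, hk⟩ := Nat.exists_eq_add_of_le (Nat.one_le_pow 2 p hp)
    rw [hk, Nat.add_sub_cancel_left, pow_add, ← _root_.mul_assoc p p, ← sq, hk]
    ring
  rw [h1, pow_add] at f3
  exact mul_eq_right.mp f3

end K258.KeyCharP
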