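import Groth.Agent.AbSch.K258.PushBase
import Groth.Agent.AbSch.K258.DatDef
import Groth.Agent.S14328

/-!
# The key module of a principal datum
-/

set_option autoImplicit false
universe u

open CategoryTheory MonoidalCategory CartesianMonoidalCategory MonObj GrpObj AlgebraicGeometry Limits Opposite
open Groth.Agent Groth.Agent.Grpsch Groth.Agent.Fdesc.LocGen K451.OmegaBox

namespace K258.KeyDat

theorem pull_det {S T : Scheme.{u}} (q : T ⟶ S) {r : ℕ} {E : S.Modules} (hE : FlatMod.IsFinLocFreeOfRank r E)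
    (hE' : FlatMod.IsFinLocFreeOfRank r ((Scheme.Modules.pullback q).obj E)) :
    PicGrp.pull q (K451.DetPic.det r E hE) = K451.DetPic.det r _ hE' := by
  have h1 := Groth.Agent.Dual.H366.ExtQCoh.isExtPow_ext (K451.DetPic.isQCoh_of_rank hE) r
  have h2 := K583.ExtPowPull.isExtPow_pullback q (K451.DetPic.isQCoh_of_rank hE) h1
  have h3 := K451.DetMat.isInvertible_of_isExtPow hE h1
  rw [← K451.DetPic.mk_eq_det hE h1 h3, PicGrp.pull_mk]
  exact K451.DetPic.mk_eq_det hE' h2 _

variable {S T : Scheme.{u}} {A : Over S} [GrpObj A] {g : ℕ} {L : A.left.Modules}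

/-- The direct image commutes with base change. -/
theorem nonempty_push (hA : AgPol.IsAbSch A g) (hL : PicF.IsInvertible L) (hamp : RelAmple.IsRelAmple A.hom L)
    (q : T ⟶ S) : Nonempty ((Scheme.Modules.pullback q).obj ((Coh.push A.hom).obj L) ≅
      (Coh.push (Red.bc q A).hom).obj ((Scheme.Modules.pullback (K258.AbBC.pr q A)).obj L)) := by
  have := K258.PushBase.isIso_bc0 hA hL hamp q _ _ (K258.AbBC.isPullback q A)
  exact ⟨asIso (CohBC.bc0 A.hom q (Red.bc q A).hom (K258.AbBC.pr q A) (K258.AbBC.isPullback q A).w L)⟩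

theorem Dat.bc (D : Dat A g L) (q : T ⟶ S) :
    Dat (Red.bc q A) g ((Scheme.Modules.pullback (K258.AbBC.pr q A)).obj L) := by
  have := D.ab.proper
  refine ⟨K258.AbBC.isAbSch q A D.ab, isInvertible_pullback _ D.inv, K258.AbBC.rig q D.inv D.rig,
    K258.AbBC.sym q D.inv D.sym, K258.AbBC.amp q D.amp, ?_⟩
  obtain ⟨e⟩ := nonempty_push D.ab D.inv D.amp q
  exact K451.DetPic.rank_one_iff.mp (K451.DetPic.rank_of_iso e
    (K451.DetPic.rank_one_iff.mpr (isInvertible_pullback q D.prin)))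

/-- The class of the key module. -/
noncomputable def delta (D : Dat A g L) : PicGrp.Pic S :=
  PicGrp.mk _ D.prin ^ 2 * K451.DetPic.det g (om A) (isFinLocFreeOfRank_om D.ab)

theorem delta_bc (D : Dat A g L) (q : T ⟶ S) : delta (D.bc q) = PicGrp.pull q (delta D) := by
  have := D.ab.proper
  obtain ⟨e⟩ := nonempty_push D.ab D.inv D.amp q
  obtain ⟨e'⟩ := K258.AbBC.nonempty_om (A := A) q
  have h0 := isFinLocFreeOfRank_om D.ab
  have h1 := isFinLocFreeOfRank_om (D.bc q).ab
  have h2 := K451.DetPic.rank_of_iso e'.symm h1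
  rw [delta, delta, map_mul, map_pow, PicGrp.pull_mk, pull_det q h0 h2,
    K451.DetPic.det_congr h2 h1 rfl e', PicGrp.mk_congr e]

/-- The isogeny formula. -/
theorem formula [IsLocallyNoetherian S] {B : Over S} [GrpObj B] [IsCommMonObj A] [IsCommMonObj B]
    (hA : AgPol.IsAbSch A g) (lam : A ⟶ B) [IsMonHom lam] (hfin : IsFinite lam.left) (hflat : Flat lam.left)
    (hsurj : Surjective lam.left) (m : ℕ) (hm : 1 ≤ m)
    (hker : ∀ (T : Over S) (x : T ⟶ A), x ≫ lam = 1 → x ^ m = 1)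
    {M : B.left.Modules} (D : Dat B g M) (N : A.left.Modules)
    (e : Nonempty ((Scheme.Modules.pullback lam.left).obj M ≅ N)) (d : ℕ)
    (hfree : FlatMod.IsFinLocFreeOfRank d ((Coh.push A.hom).obj N)) :
    (K451.DetPic.det d _ hfree ^ 2 * K451.DetPic.det g (om A) (isFinLocFreeOfRank_om hA) ^ d) ^ m =
      delta D ^ (m * d) := by
  obtain ⟨e⟩ := e
  have hfree' : FlatMod.IsFinLocFreeOfRank d ((Coh.push A.hom).obj ((Scheme.Modules.pullback lam.left).obj M)) :=
    K451.DetPic.rank_of_iso ((Coh.push A.hom).mapIso e.symm) hfree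
  obtain ⟨E, hE⟩ := Groth.Agent.Dual.H366.ExtQCoh.exists_isExtPow d (K451.DetPic.isQCoh_of_rank hfree')
  have homA := isFinLocFreeOfRank_om hA
  have homB := isFinLocFreeOfRank_om D.ab
  obtain ⟨ωA, hωA⟩ := Groth.Agent.Dual.H366.ExtQCoh.exists_isExtPow g (K451.DetPic.isQCoh_of_rank homA)
  obtain ⟨ωB, hωB⟩ := Groth.Agent.Dual.H366.ExtQCoh.exists_isExtPow g (K451.DetPic.isQCoh_of_rank homB)
  have h1 := Groth.Agent.S14328.result A B g hA D.ab lam hfin hflat hsurj m hm hker M D.inv D.rig D.sym D.amp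
    D.prin d hfree' E hE ωA hωA ωB hωB
  have hEi := K451.DetMat.isInvertible_of_isExtPow hfree' hE
  have hωAi := K451.DetMat.isInvertible_of_isExtPow homA hωA
  have hωBi := K451.DetMat.isInvertible_of_isExtPow homB hωB
  have h2 := isInvertible_tensorMod (isInvertible_tensorPow hEi 2) (isInvertible_tensorPow hωAi d)
  have h3 := isInvertible_tensorMod (isInvertible_tensorPow D.prin 2) hωBi
  rw [← PicGrp.mk_eq_iff (isInvertible_tensorPow h2 m) (isInvertible_tensorPow h3 (m * d)),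
    PicGrp.mk_tensorPow h2, PicGrp.mk_tensorPow h3,
    ← PicGrp.mk_mul_mk (isInvertible_tensorPow hEi 2) (isInvertible_tensorPow hωAi d),
    ← PicGrp.mk_mul_mk (isInvertible_tensorPow D.prin 2) hωBi,
    PicGrp.mk_tensorPow hEi, PicGrp.mk_tensorPow hωAi, PicGrp.mk_tensorPow D.prin,
    K451.DetPic.mk_eq_det hfree' hE, K451.DetPic.mk_eq_det homA hωA, K451.DetPic.mk_eq_det homB hωB,
    K451.DetPic.det_congr hfree' hfree rfl ((Coh.push A.hom).mapIso e)] at h1
  exact h1

end K258.KeyDat
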