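import Groth.Agent.AbSch.K258.GenPtLem
import Groth.Agent.GrpSch.K269.NormFin

/-!
# Normalization in a finite extension of the field of a generic point
-/

set_option autoImplicit false
universe u

open CategoryTheory AlgebraicGeometry K258.PlanKey

namespace K258.NormGen

/-- Generic points exist. -/
theorem exists_genPt (S : Scheme.{u}) [IsIntegral S] :
    ∃ (K : Type u) (_ : Field K) (ξ : Spec (CommRingCat.of K) ⟶ S), IsGenPt ξ := by
  let e : S.functionField ≃+* S.functionField := RingEquiv.refl _
  exact ⟨S.functionField, inferInstance, Spec.map (CommRingCat.ofHom e.toRingHom) ≫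
    S.fromSpecStalk (genericPoint S), e, rfl⟩

/-- The normalization in a finite extension. -/
theorem exists_norm {S : Scheme.{u}} [IsIntegral S] (hS : ∀ U : S.affineOpens, CAlg.IsNagata Γ(S, U))
    {K : Type u} [Field K] (ξ : Spec (CommRingCat.of K) ⟶ S) (hξ : IsGenPt ξ) (K' : Type u) [Field K']
    [Algebra K K'] [Module.Finite K K'] :
    ∃ (X : Scheme.{u}) (π : X ⟶ S) (_ : IsIntegral X) (ξ' : Spec (CommRingCat.of K') ⟶ X),
      IsFinite π ∧ Surjective π ∧ Pi1.IsNormalScheme X ∧
      ξ' ≫ π = Spec.map (CommRingCat.ofHom (algebraMap K K')) ≫ ξ ∧ IsGenPt ξ' := by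
  obtain ⟨e, rfl⟩ := hξ
  let φ : S.functionField →+* K' := (algebraMap K K').comp e.toRingHom
  let _ : Algebra S.functionField K' := φ.toAlgebra
  have hfin : FiniteDimensional S.functionField K' := by
    have h1 : (algebraMap K K').Finite := RingHom.finite_algebraMap.mpr inferInstance
    have h2 : e.toRingHom.Finite := RingHom.Finite.of_surjective _ e.surjective
    have h3 : φ.Finite := h1.comp h2
    exact h3
  obtain ⟨X, π, iX, ξ', h1, h2, h3, h4, h5, h6⟩ := K269.NormFin.exists_norm hS K'
  refine ⟨X, π, iX, ξ', h1, h2, h3, ?_, (K258.GenPtLem.isGenPt_iff ξ').mpr ⟨h5, h6⟩⟩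
  rw [h4, ← Category.assoc, ← Spec.map_comp]
  rfl

end K258.NormGen
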