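import Groth.Agent.AbSch.K258.OpenAsm
import Groth.Agent.AbSch.K258.Closed
import Groth.Agent.AbSch.K17.Hartogs
import Groth.Agent.AbSch.K870.GlueTors
import Groth.Agent.AbSch.K458.Kill
import Groth.Agent.AbSch.K493.HasFin
import Groth.Agent.S4381
import Groth.Agent.AbSch.K258.NormGen
import Groth.Agent.Resolve.K377.QESch
import Groth.Agent.Curves.K317.NormPic
import Groth.Agent.CalgA.SerreLocal
import Groth.Agent.Vancyc.H878.Triv

/-!
# Torsion of the key module over normal excellent bases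
-/

set_option autoImplicit false
universe u

open CategoryTheory MonoidalCategory CartesianMonoidalCategory MonObj GrpObj AlgebraicGeometry Limits Opposite
open Groth.Agent Groth.Agent.Grpsch Groth.Agent.Fdesc.LocGen K258.KeyDat K258.AbBC K258.PlanKey K258.Theta
open K451.OmegaBox

namespace K258.KeyInt

section kap

variable {S T : Scheme.{u}} {A : Over S} [GrpObj A] {g : ℕ} {L : A.left.Modules}

/-- The class of the key module. -/
noncomputable def kap (hA : AgPol.IsAbSch A g) {d : ℕ} (hfree : FlatMod.IsFinLocFreeOfRank d ((Coh.push A.hom).obj L)) :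
    PicGrp.Pic S :=
  K451.DetPic.det d _ hfree ^ 2 * K451.DetPic.det g (om A) (isFinLocFreeOfRank_om hA) ^ d

/-- Base change of the key class. -/
theorem kap_bc (hA : AgPol.IsAbSch A g) (hL : PicF.IsInvertible L) (hamp : RelAmple.IsRelAmple A.hom L) {d : ℕ}
    (hfree : FlatMod.IsFinLocFreeOfRank d ((Coh.push A.hom).obj L)) (q : T ⟶ S) :
    ∃ hfree' : FlatMod.IsFinLocFreeOfRank d
        ((Coh.push (Red.bc q A).hom).obj ((Scheme.Modules.pullback (pr q A)).obj L)),
      kap (isAbSch q A hA) hfree' = PicGrp.pull q (kap hA hfree) := by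
  have := hA.proper
  obtain ⟨e⟩ := nonempty_push hA hL hamp q
  obtain ⟨e'⟩ := K258.AbBC.nonempty_om (A := A) q
  have h0 : FlatMod.IsFinLocFreeOfRank d ((Scheme.Modules.pullback q).obj ((Coh.push A.hom).obj L)) :=
    Vancyc.H878.Triv.isFinLocFreeOfRank_pullback q hfree
  have h0' := isFinLocFreeOfRank_om hA
  have h1 := isFinLocFreeOfRank_om (isAbSch q A hA)
  have h2 := K451.DetPic.rank_of_iso e'.symm h1
  refine ⟨K451.DetPic.rank_of_iso e h0, ?_⟩
  rw [kap, kap, map_mul, map_pow, map_pow, pull_det q hfree h0, pull_det q h0' h2,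
    K451.DetPic.det_congr h2 h1 rfl e', K451.DetPic.det_congr h0 (K451.DetPic.rank_of_iso e h0) rfl e]

end kap

/-- The hypothesis of the theorem, in terms of classes. -/
def Hyp (S : Scheme.{u}) (g : ℕ) : Prop :=
  ∀ (S' : Scheme.{u}) (q : S' ⟶ S) [IsNoetherian S'] [LocallyQuasiFinite q] [LocallyOfFiniteType q]
    [QuasiCompact q], Pi1.IsNormalScheme S' → ∀ (A : Over S') [GrpObj A] [IsCommMonObj A] (L : A.left.Modules)
    (D : Dat A g L), ∃ k : ℕ, 1 ≤ k ∧ delta D ^ k = 1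

theorem Hyp.restrict {S : Scheme.{u}} {g : ℕ} (H : Hyp S g) {U : Scheme.{u}} (j : U ⟶ S) [LocallyQuasiFinite j]
    [LocallyOfFiniteType j] [QuasiCompact j] : Hyp U g := by
  intro S' q _ _ _ _ hS' A _ _ L D
  exact H S' (q ≫ j) hS' A L D

/-- The integral case. -/
theorem torsion_integral {S : Scheme.{u}} [IsIntegral S] [IsNoetherian S] (hSn : Pi1.IsNormalScheme S)
    (hSe : K377.QESch.QE S) (g : ℕ) (H : Hyp S g) (A : Over S) [GrpObj A] [IsCommMonObj A]
    (hA : AgPol.IsAbSch A g) (L : A.left.Modules) (hL : PicF.IsInvertible L)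
    (hrig : Nonempty ((Scheme.Modules.pullback (η[A] : 𝟙_ (Over S) ⟶ A).left).obj L ≅ Coh.structureModule S))
    (hsym : Nonempty ((Scheme.Modules.pullback (𝟙 A ^ (-1 : ℤ)).left).obj L ≅ L))
    (hamp : RelAmple.IsRelAmple A.hom L) {d : ℕ} (hfree : FlatMod.IsFinLocFreeOfRank d ((Coh.push A.hom).obj L)) :
    ∃ k : ℕ, 1 ≤ k ∧ kap hA hfree ^ k = 1 := by
  have iA1 := hA.smooth
  have iA2 := hA.proper
  obtain ⟨K, iK, ξ, hξ⟩ := K258.NormGen.exists_genPt S
  let AK := Red.bc ξ A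
  let LK := (Scheme.Modules.pullback (pr ξ A)).obj L
  have hAK : AgPol.IsAbSch AK g := isAbSch ξ A hA
  have hLK : PicF.IsInvertible LK := isInvertible_pullback _ hL
  have hampK : RelAmple.IsRelAmple AK.hom LK := amp ξ hamp
  -- over the algebraic closure
  let Ω := AlgebraicClosure K
  let ω : Spec (CommRingCat.of Ω) ⟶ Spec (CommRingCat.of K) := Spec.map (CommRingCat.ofHom (algebraMap K Ω))
  have hAΩ : AgPol.IsAbSch (Red.bc ω AK) g := isAbSch ω AK hAK
  have iAK2 := hAK.proper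
  have iAΩ2 := hAΩ.proper
  have hampΩ : CohB1.IsAmple ((Scheme.Modules.pullback (pr ω AK)).obj LK) :=
    (Groth.Agent.S4381.result (Red.bc ω AK).hom _).mp (amp ω hampK)
  have h1 : HasPrinc (Red.bc ω AK) g ((Scheme.Modules.pullback (pr ω AK)).obj LK) :=
    K258.Closed.hasPrinc_closed Ω (Red.bc ω AK) hAΩ _ hampΩ (sym ω hLK (sym ξ hL hsym))
  obtain ⟨K', iK', algK', hfinK', h2⟩ := K493.HasFin.hasPrinc_finite K AK hAK LK hLK hampK Ω h1
  -- the normalization
  obtain ⟨X, π, iX, e, hπ1, hπ2, hXn, he1, heX⟩ :=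
    K258.NormGen.exists_norm (K377.QESch.isNag hSe) ξ hξ K'
  have hXN : IsNoetherian X := by
    have : IsLocallyNoetherian X := LocallyOfFiniteType.isLocallyNoetherian π
    have : CompactSpace X := QuasiCompact.compactSpace_of_compactSpace π
    exact {}
  have he2 := K258.GenPtLem.apply heX
  have hXQ : K377.QESch.QE X := K377.QESch.of_locallyOfFiniteType π hSe
  -- the regular locus
  let U : X.Opens := ⟨{x : X | IsRegularLocalRing (X.presheaf.stalk x)}, K377.QESch.isOpen_regular hXQ⟩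
  have hU : ∀ x : X, ringKrullDim (X.presheaf.stalk x) ≤ 1 → x ∈ U := by
    intro x hx
    obtain ⟨i1, i2⟩ := hXn x
    exact Groth.Agent.CalgA.SerreLocal.isRegularLocalRing_of_isIntegrallyClosed hx
  have hη : genericPoint X ∈ U := hU _ K258.OpenAsm.krullDim_genericPoint
  have hne : Nonempty U := ⟨⟨_, hη⟩⟩
  have hUi : IsIntegral (U : Scheme.{u}) := inferInstance
  have hUN : IsNoetherian (U : Scheme.{u}) := K258.OpenAsm.isNoetherian_opens U
  obtain ⟨ξU, hξU⟩ := K258.GenPtLem.exists_lift e U ((he2 _).symm ▸ hη)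
  have hgU : IsGenPt ξU := K258.GenPtLem.of_comp U.ι ξU (by rw [hξU]; exact heX)
  have hUr : ∀ x : (U : Scheme.{u}), IsRegularLocalRing ((U : Scheme.{u}).presheaf.stalk x) := fun x =>
    K258.OpenAsm.isRegular_stalk U.ι x x.2
  have hUn := K258.OpenAsm.isNormal_of_isOpenImmersion U.ι hXn
  -- the open subscheme
  let qU : (U : Scheme.{u}) ⟶ S := U.ι ≫ π
  let κ : Spec (CommRingCat.of K') ⟶ Spec (CommRingCat.of K) := Spec.map (CommRingCat.ofHom (algebraMap K K'))
  have hκ : ξU ≫ qU = κ ≫ ξ := by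
    rw [← Category.assoc, hξU]
    exact he1
  obtain ⟨θ, hθ1, hθ2⟩ := exists_tower qU A ξU ξ κ hκ
  let AU := Red.bc qU A
  let LU := (Scheme.Modules.pullback (pr qU A)).obj L
  have hAU : AgPol.IsAbSch AU g := isAbSch qU A hA
  have hLU : PicF.IsInvertible LU := isInvertible_pullback _ hL
  have hampU : RelAmple.IsRelAmple AU.hom LU := amp qU hamp
  have h3 : HasPrinc (Red.bc ξU AU) g ((Scheme.Modules.pullback (pr ξU AU)).obj LU) := by
    refine hasPrinc_of_iso θ (isInvertible_pullback _ hLK) ?_ h2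
    have i1 := isInvertible_pullback (pr ξU AU) hLU
    have i2 := isInvertible_pullback (pr κ AK) hLK
    rw [← PicGrp.mk_eq_iff (isInvertible_pullback θ.hom.left i2) i1, ← PicGrp.pull_mk θ.hom.left i2,
      ← PicGrp.pull_mk (pr κ AK) hLK, ← PicGrp.pull_mk (pr ξ A) hL, ← PicGrp.pull_mk (pr ξU AU) hLU,
      ← PicGrp.pull_mk (pr qU A) hL, ← PicGrp.pull_comp, ← PicGrp.pull_comp, ← PicGrp.pull_comp]
    congr 1
    rw [← Category.assoc] at hθ2
    rw [Category.assoc]
    rw [Category.assoc] at hθ2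
    rw [hθ2]
  obtain ⟨V, hV, h4⟩ := K258.OpenAsm.hasPrinc_open hUr hUn ξU hgU AU hAU LU hLU hampU h3
  have hηV : genericPoint U ∈ V := hV _ K258.OpenAsm.krullDim_genericPoint
  have hneV : Nonempty V := ⟨⟨_, hηV⟩⟩
  have hVi : IsIntegral (V : Scheme.{u}) := inferInstance
  have hVN : IsNoetherian (V : Scheme.{u}) := K258.OpenAsm.isNoetherian_opens V
  have hVn := K258.OpenAsm.isNormal_of_isOpenImmersion V.ι hUn
  obtain ⟨hfU, hkU⟩ := kap_bc hA hL hamp hfree qU
  obtain ⟨hfV, hkV⟩ := kap_bc hAU hLU hampU hfU V.ι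
  have h5 : ∃ k : ℕ, 1 ≤ k ∧ kap (isAbSch V.ι AU hAU) hfV ^ k = 1 := by
    refine K258.Torsion.main (isAbSch V.ι AU hAU) (isInvertible_pullback _ hLU) (rig V.ι hLU (rig qU hL hrig))
      (sym V.ι hLU (sym qU hL hsym)) (amp V.ι hampU) hfV ?_ h4 ?_
    · intro B _ _ hB lam _ hf hfl
      exact K458.Kill.exists_kills _ B (isAbSch V.ι AU hAU) hB lam hf hfl
    · intro B _ _ M D
      exact H V (V.ι ≫ qU) hVn B M D
  obtain ⟨k, hk, hk1⟩ := h5
  rw [hkV, hkU, ← map_pow, ← map_pow, ← PicGrp.pull_comp] at hk1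
  have hk2 : PicGrp.pull (V.ι ≫ U.ι) (PicGrp.pull π (kap hA hfree ^ k)) = 1 := by
    rw [← PicGrp.pull_comp]
    exact hk1
  have h6 : PicGrp.pull π (kap hA hfree ^ k) = 1 := by
    refine K17.Hartogs.eq_one_of_pull hXn (V.ι ≫ U.ι) ?_ _ hk2
    intro x hx
    have hxU := hU x hx
    have hxV := hV ⟨x, hxU⟩ ((K258.OpenAsm.krullDim_stalk U.ι (⟨x, hxU⟩ : (U : Scheme.{u}))).trans_le hx)
    exact ⟨⟨⟨x, hxU⟩, hxV⟩, rfl⟩
  obtain ⟨n, hn, hn1⟩ := K317.NormPic.exists_pow (g := π) fun x => (hSn x).2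
  exact ⟨k * n, Nat.mul_pos hk hn, by rw [pow_mul]; exact hn1 _ h6⟩

/-- The general case. -/
theorem torsion {S : Scheme.{u}} [IsNoetherian S] (hSn : Pi1.IsNormalScheme S)
    (hSe : K377.QESch.QE S) (g : ℕ) (H : Hyp S g) (A : Over S) [GrpObj A] [IsCommMonObj A]
    (hA : AgPol.IsAbSch A g) (L : A.left.Modules) (hL : PicF.IsInvertible L)
    (hrig : Nonempty ((Scheme.Modules.pullback (η[A] : 𝟙_ (Over S) ⟶ A).left).obj L ≅ Coh.structureModule S))
    (hsym : Nonempty ((Scheme.Modules.pullback (𝟙 A ^ (-1 : ℤ)).left).obj L ≅ L))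
    (hamp : RelAmple.IsRelAmple A.hom L) {d : ℕ} (hfree : FlatMod.IsFinLocFreeOfRank d ((Coh.push A.hom).obj L)) :
    ∃ k : ℕ, 1 ≤ k ∧ kap hA hfree ^ k = 1 := by
  refine K870.GlueTors.exists_pow_of_clopen hSn _ fun U hU hUi => ?_
  have hUN : IsNoetherian (U : Scheme.{u}) := K258.OpenAsm.isNoetherian_opens U
  have := hA.proper
  obtain ⟨hf, hk⟩ := kap_bc hA hL hamp hfree U.ι
  rw [← hk]
  exact torsion_integral (K258.OpenAsm.isNormal_of_isOpenImmersion U.ι hSn)
    (K377.QESch.of_locallyOfFiniteType U.ι hSe) g (H.restrict U.ι) _ (isAbSch U.ι A hA) _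
    (isInvertible_pullback _ hL) (rig U.ι hL hrig) (sym U.ι hL hsym) (amp U.ι hamp) hf

end K258.KeyInt
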