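import Groth.Agent.AbSch.K258.Extend
import Groth.Agent.AbSch.K258.GenPtLem
import Groth.Agent.AbSch.K422.QuotExt

/-!
# Principal reductions over an open subscheme containing the points of codimension at most one
-/

set_option autoImplicit false
universe u

open CategoryTheory MonoidalCategory CartesianMonoidalCategory MonObj GrpObj AlgebraicGeometry Limits Opposite
open Groth.Agent Groth.Agent.Grpsch Groth.Agent.Fdesc.LocGen K258.KeyDat K258.AbBC K258.PlanKey K258.Theta

namespace K258.OpenAsm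

theorem isRegular_stalk {X Y : Scheme.{u}} (f : X ⟶ Y) [IsOpenImmersion f] (x : X)
    (h : IsRegularLocalRing (Y.presheaf.stalk (f x))) : IsRegularLocalRing (X.presheaf.stalk x) := by
  have e : (Y.presheaf.stalk (f x)) ≃+* X.presheaf.stalk x :=
    (asIso (f.stalkMap x)).commRingCatIsoToRingEquiv
  exact IsRegularLocalRing.of_ringEquiv e

theorem krullDim_stalk {X Y : Scheme.{u}} (f : X ⟶ Y) [IsOpenImmersion f] (x : X) :
    ringKrullDim (X.presheaf.stalk x) = ringKrullDim (Y.presheaf.stalk (f x)) := by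
  have e : (Y.presheaf.stalk (f x)) ≃+* X.presheaf.stalk x :=
    (asIso (f.stalkMap x)).commRingCatIsoToRingEquiv
  exact (ringKrullDim_eq_of_ringEquiv e).symm

theorem isRegular_of_isOpenImmersion {X Y : Scheme.{u}} (f : X ⟶ Y) [IsOpenImmersion f]
    (hY : ∀ y : Y, IsRegularLocalRing (Y.presheaf.stalk y)) (x : X) : IsRegularLocalRing (X.presheaf.stalk x) :=
  isRegular_stalk f x (hY (f x))

theorem isNormal_of_isOpenImmersion {X Y : Scheme.{u}} (f : X ⟶ Y) [IsOpenImmersion f]
    (hY : Pi1.IsNormalScheme Y) : Pi1.IsNormalScheme X := by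
  intro x
  obtain ⟨h1, h2⟩ := hY (f x)
  let e : Y.presheaf.stalk (f x) ≃+* X.presheaf.stalk x :=
    (asIso (f.stalkMap x)).commRingCatIsoToRingEquiv
  exact ⟨e.symm.toMulEquiv.isDomain _, IsIntegrallyClosed.of_equiv e⟩

/-- The generic point has codimension zero. -/
theorem krullDim_genericPoint {S : Scheme.{u}} [IsIntegral S] :
    ringKrullDim (S.presheaf.stalk (genericPoint S)) ≤ 1 := by
  have h1 : ringKrullDim S.functionField = 0 := ringKrullDim_eq_zero_of_field S.functionField
  exact h1.trans_le zero_le_one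

theorem isNoetherian_opens {S : Scheme.{u}} [IsNoetherian S] (V : S.Opens) : IsNoetherian (V : Scheme.{u}) := by
  have h1 : IsLocallyNoetherian (V : Scheme.{u}) := isLocallyNoetherian_of_isOpenImmersion V.ι
  have h2 : TopologicalSpace.NoetherianSpace V := V.ι.isOpenEmbedding.isInducing.noetherianSpace
  have h3 : CompactSpace V := inferInstance
  exact {}

/-- **Extension of a principal reduction of the generic fibre to an open subscheme.** -/
theorem hasPrinc_open {S : Scheme.{u}} [IsIntegral S] [IsNoetherian S]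
    (hreg : ∀ x : S, IsRegularLocalRing (S.presheaf.stalk x)) (hS : Pi1.IsNormalScheme S)
    {K : Type u} [Field K] (ξ : Spec (CommRingCat.of K) ⟶ S) (hξ : IsGenPt ξ)
    (A : Over S) [GrpObj A] [IsCommMonObj A] {g : ℕ} (hA : AgPol.IsAbSch A g) (L : A.left.Modules)
    (hL : PicF.IsInvertible L) (hamp : RelAmple.IsRelAmple A.hom L)
    (h : HasPrinc (Red.bc ξ A) g ((Scheme.Modules.pullback (pr ξ A)).obj L)) :
    ∃ V : S.Opens, (∀ x : S, ringKrullDim (S.presheaf.stalk x) ≤ 1 → x ∈ V) ∧
      HasPrinc (Red.bc V.ι A) g ((Scheme.Modules.pullback (pr V.ι A)).obj L) := by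
  obtain ⟨B', iB, cB, lam', M', a', n, hmon, hfin, hflat, hsurj, D', hn, ha, hiso⟩ := h
  obtain ⟨V, ξV, B, iB2, cB2, lam, b, α, hV, hξV, hB, hmon2, hf, hfl, hs, hb, hα1, hα2, hlam⟩ :=
    K422.QuotExt.exists_quot_extend hS ξ hξ A hA L hamp B' lam' hfin hflat hsurj
  have iA2 := hA.proper
  have hη : genericPoint S ∈ V := hV _ krullDim_genericPoint
  have hne : Nonempty V := ⟨⟨_, hη⟩⟩
  have hVi : IsIntegral (V : Scheme.{u}) := inferInstance
  have hVN : IsNoetherian (V : Scheme.{u}) := isNoetherian_opens V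
  have hgV : IsGenPt ξV := K258.GenPtLem.of_comp V.ι ξV (by rw [hξV]; exact hξ)
  have hregV := isRegular_of_isOpenImmersion V.ι hreg
  have hVn := isNormal_of_isOpenImmersion V.ι hS
  obtain ⟨θ, hθ1, hθ2⟩ := exists_comp V.ι A ξV ξ hξV
  have hL' := isInvertible_pullback (pr ξ A) hL
  have hLV := isInvertible_pullback (pr V.ι A) hL
  have hiso' := (iso_iff lam' D'.inv hL' a').mp hiso
  obtain ⟨p1, p2, p3⟩ := props_comp θ lam' hfin hflat hsurj
  have hα : θ.hom.left ≫ α = pr ξV (Red.bc V.ι A) := by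
    apply (K258.AbBC.isPullback V.ι A).hom_ext
    · rw [Category.assoc]
      exact (congrArg (θ.hom.left ≫ ·) hα1).trans hθ2
    · rw [Category.assoc]
      refine (congrArg (θ.hom.left ≫ ·) hα2).trans ?_
      change θ.hom.left ≫ (Red.bc ξ A).hom ≫ ξV = _
      rw [← Category.assoc, Over.w, (K258.AbBC.isPullback ξV (Red.bc V.ι A)).w]
  refine ⟨V, hV, K258.Extend.core hregV hVn hgV (isAbSch V.ι A hA) hB hLV (amp V.ι hamp) lam hf hfl hs b hb
    (θ.hom ≫ lam') p1 p2 p3 ?_ D' (a' ≫ θ.inv) n hn (pow_inv_iso θ a' ha) ?_⟩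
  · rw [Over.comp_left, Category.assoc, hlam, ← Category.assoc, hα]
  · have h1 : PicGrp.pull (pr ξV (Red.bc V.ι A)) (PicGrp.mk _ hLV) =
        PicGrp.pull θ.hom.left (PicGrp.mk _ hL') := by
      rw [← PicGrp.pull_mk _ hL, ← PicGrp.pull_mk _ hL, ← PicGrp.pull_comp, ← PicGrp.pull_comp, hθ2]
    rw [h1]
    exact class_transport θ lam' _ _ a' hiso'

end K258.OpenAsm
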